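import Groth.Agent.IsoNatClean.Double

/-!
# Finitely many lines crossing at a point
-/

set_option autoImplicit false
set_option backward.isDefEq.respectTransparency false
set_option backward.isDefEq.respectTransparency.types false

universe u

open CategoryTheory CategoryTheory.Limits AlgebraicGeometry
open Polynomial (X C)

noncomputable section

namespace IsoNatAut

/-- The base ring. -/
abbrev R0 : Type u := ULift.{u} ℤ

/-- Evaluation at the origin. -/
abbrev ev : Polynomial R0.{u} →+* R0.{u} := Polynomial.evalRingHom 0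

/-- Functions on `n + 1` lines crossing at one point. -/
def BR (n : ℕ) : Subring (Fin (n + 1) → Polynomial R0.{u}) where
  carrier := {f | ∀ i j, ev (f i) = ev (f j)}
  mul_mem' := fun {f g} hf hg i j => by simp only [Pi.mul_apply, map_mul]; rw [hf i j, hg i j]
  one_mem' := fun i j => by simp
  add_mem' := fun {f g} hf hg i j => by simp only [Pi.add_apply, map_add]; rw [hf i j, hg i j]
  zero_mem' := fun i j => by simp
  neg_mem' := fun {f} hf i j => by simp only [Pi.neg_apply, map_neg]; rw [hf i j]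

variable {n m l : ℕ}

/-- The restriction to a line. -/
def proj (i : Fin (n + 1)) : BR.{u} n →+* Polynomial R0.{u} :=
  (Pi.evalRingHom (fun _ : Fin (n + 1) => Polynomial R0.{u}) i).comp (BR n).subtype

lemma BR_ext {f g : BR.{u} n} (h : ∀ i, proj i f = proj i g) : f = g := Subtype.ext (funext h)

lemma ev_proj (f : BR.{u} n) (i j : Fin (n + 1)) : ev (proj i f) = ev (proj j f) := f.2 i j

/-- The coordinate of a line. -/
def aB (i : Fin (n + 1)) : BR.{u} n := ⟨Pi.single i X, fun j k => by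
  rcases eq_or_ne j i with rfl | hj <;> rcases eq_or_ne k j with rfl | hk <;>
    simp [Pi.single_apply] <;> split_ifs <;> simp_all⟩

lemma proj_aB (i j : Fin (n + 1)) : proj j (aB.{u} i) = if j = i then X else 0 := Pi.single_apply i X j

/-- The constants. -/
def cB : R0.{u} →+* BR.{u} n := RingHom.codRestrict (Pi.ringHom fun _ => C) _ fun r i j => rfl

/-- The origin. -/
def oB (n : ℕ) : BR.{u} n →+* R0.{u} := ev.comp (proj 0)

lemma oB_aB (i : Fin (n + 1)) : oB n (aB.{u} i) = 0 := by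
  change ev (proj 0 (aB i)) = 0
  rw [proj_aB]
  split_ifs <;> simp

/-- The restriction to some of the lines. -/
def bmap (σ : Fin (m + 1) → Fin (n + 1)) : BR.{u} n →+* BR.{u} m :=
  RingHom.codRestrict (Pi.ringHom fun i => proj (σ i)) _ fun f i j => ev_proj f _ _

lemma proj_bmap (σ : Fin (m + 1) → Fin (n + 1)) (i : Fin (m + 1)) (f : BR.{u} n) :
    proj i (bmap σ f) = proj (σ i) f := rfl

lemma bmap_comp (σ : Fin (m + 1) → Fin (n + 1)) (τ : Fin (l + 1) → Fin (m + 1)) :
    (bmap.{u} τ).comp (bmap σ) = bmap (σ ∘ τ) := rfl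

lemma oB_bmap (σ : Fin (m + 1) → Fin (n + 1)) : (oB.{u} m).comp (bmap σ) = oB n :=
  RingHom.ext fun f => ev_proj f _ _

lemma bmap_aB_self {σ : Fin (m + 1) → Fin (n + 1)} (hσ : Function.Injective σ) (i : Fin (m + 1)) :
    bmap σ (aB.{u} (σ i)) = aB i :=
  BR_ext fun j => by rw [proj_bmap, proj_aB, proj_aB]; simp [hσ.eq_iff]

lemma bmap_aB_zero {σ : Fin (m + 1) → Fin (n + 1)} {k : Fin (n + 1)} (hk : ∀ i, σ i ≠ k) :
    bmap σ (aB.{u} k) = 0 :=
  BR_ext fun j => by rw [proj_bmap, proj_aB, map_zero, if_neg (hk j)]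

/-- The projection to a line. -/
def qmap (i : Fin (n + 1)) : BR.{u} 0 →+* BR.{u} n :=
  (Polynomial.eval₂RingHom cB (aB i)).comp (proj 0)

lemma proj_qmap (i j : Fin (n + 1)) (f : BR.{u} 0) :
    proj j (qmap i f) = if j = i then proj 0 f else C (ev (proj 0 f)) := by
  have h : (proj j).comp (Polynomial.eval₂RingHom cB (aB.{u} i)) =
      if j = i then RingHom.id _ else C.comp ev := by
    refine Polynomial.ringHom_ext (fun r => ?_) ?_
    · change proj j (Polynomial.eval₂ cB (aB i) (C r)) = _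
      rw [Polynomial.eval₂_C]
      split_ifs <;> simp <;> rfl
    · change proj j (Polynomial.eval₂ cB (aB i) X) = _
      rw [Polynomial.eval₂_X, proj_aB]
      split_ifs <;> simp
  have := RingHom.congr_fun h (proj 0 f)
  refine this.trans ?_
  split_ifs <;> rfl

lemma qmap_aB (i : Fin (n + 1)) : qmap i (aB.{u} 0) = aB i :=
  BR_ext fun j => by rw [proj_qmap, proj_aB, proj_aB, if_pos rfl]; by_cases h : j = i <;> simp [h]

lemma qmap_oB (i : Fin (n + 1)) : (oB.{u} n).comp (qmap i) = oB 0 := RingHom.ext fun f => by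
  change ev (proj 0 (qmap i f)) = ev (proj 0 f)
  rw [proj_qmap]
  split_ifs <;> simp

lemma bmap_qmap_self (i : Fin (n + 1)) : (bmap.{u} (fun _ : Fin 1 => i)).comp (qmap i) = RingHom.id _ :=
  RingHom.ext fun f => BR_ext fun j => by
    rw [RingHom.comp_apply, proj_bmap, proj_qmap, if_pos rfl, Fin.fin_one_eq_zero j]
    rfl

lemma bmap_qmap_ne {i j : Fin (n + 1)} (h : j ≠ i) :
    (bmap.{u} (fun _ : Fin 1 => j)).comp (qmap i) = cB.comp (oB 0) :=
  RingHom.ext fun f => BR_ext fun k => by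
    rw [RingHom.comp_apply, proj_bmap, proj_qmap, if_neg h]
    rfl

lemma aB_mul_sub (i : Fin (n + 1)) (f : BR.{u} n) :
    aB i * (f - qmap i (bmap (fun _ : Fin 1 => i) f)) = 0 :=
  BR_ext fun j => by
    simp only [map_mul, map_sub, map_zero, proj_aB, proj_qmap, proj_bmap]
    split_ifs with h
    · subst h; simp
    · simp

lemma aB_mul_aB {i j : Fin (n + 1)} (h : i ≠ j) : aB.{u} i * aB j = 0 :=
  BR_ext fun k => by
    simp only [map_mul, map_zero, proj_aB]
    split_ifs with h1 h2 <;> simp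
    exact h (h1.symm.trans h2)

/-- `Spec` of a ring map. -/
abbrev spm {A B : Type u} [CommRing A] [CommRing B] (f : A →+* B) : Spec (.of B) ⟶ Spec (.of A) :=
  Spec.map (CommRingCat.ofHom f)

lemma spm_comp {A B D : Type u} [CommRing A] [CommRing B] [CommRing D] (f : A →+* B) (g : B →+* D) :
    spm g ≫ spm f = spm (g.comp f) := (Spec.map_comp _ _).symm

lemma spm_id {A : Type u} [CommRing A] : spm (RingHom.id A) = 𝟙 _ := Spec.map_id _

/-- The crossing lines. -/
abbrev Zs (n : ℕ) : Scheme.{u} := Spec (.of (BR.{u} n))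

/-- A punctured line. -/
abbrev Dz (i : Fin (n + 1)) : (Zs.{u} n).Opens := PrimeSpectrum.basicOpen (aB.{u} i)

lemma spm_mem {A B : Type u} [CommRing A] [CommRing B] (f : A →+* B) (a : A) (z : Spec (.of B)) :
    spm f z ∈ (PrimeSpectrum.basicOpen a : (Spec (.of A)).Opens) ↔ f a ∉ z.asIdeal := Iff.rfl

lemma mem_Dz (i : Fin (n + 1)) (z : Zs.{u} n) : z ∈ Dz.{u} i ↔ aB i ∉ z.asIdeal := Iff.rfl

/-- The map to the base ring. -/
abbrev toR0 (T : Scheme.{u}) : T ⟶ Spec (.of R0.{u}) := specULiftZIsTerminal.from T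

variable (T : Scheme.{u})

/-- Crossing lines over `T`. -/
abbrev XB (n : ℕ) : Scheme.{u} := T ⨯ Zs.{u} n

/-- The inclusion of some of the lines. -/
abbrev bX (σ : Fin (m + 1) → Fin (n + 1)) : XB T m ⟶ XB T n := prod.map (𝟙 T) (spm (bmap σ))

/-- The projection to a line. -/
abbrev qX (i : Fin (n + 1)) : XB T n ⟶ XB T 0 := prod.map (𝟙 T) (spm (qmap i))

/-- The origin. -/
abbrev zX (n : ℕ) : T ⟶ XB T n := prod.lift (𝟙 T) (toR0 T ≫ spm (oB n))

lemma zX_bX (σ : Fin (m + 1) → Fin (n + 1)) : zX T m ≫ bX T σ = zX T n := by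
  apply prod.hom_ext
  · simp
  · simp only [Category.assoc, prod.map_snd, prod.lift_snd_assoc, prod.lift_snd, spm_comp, oB_bmap]

lemma zX_qX (i : Fin (n + 1)) : zX T n ≫ qX T i = zX T 0 := by
  apply prod.hom_ext
  · simp
  · simp only [Category.assoc, prod.map_snd, prod.lift_snd_assoc, prod.lift_snd, spm_comp, qmap_oB]

lemma bX_bX (σ : Fin (m + 1) → Fin (n + 1)) (τ : Fin (l + 1) → Fin (m + 1)) :
    bX T τ ≫ bX T σ = bX T (σ ∘ τ) := by
  apply prod.hom_ext
  · simp
  · simp only [Category.assoc, prod.map_snd, prod.map_snd_assoc, spm_comp, bmap_comp]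

lemma bX_qX_self (i : Fin (n + 1)) : bX T (fun _ : Fin 1 => i) ≫ qX T i = 𝟙 _ := by
  apply prod.hom_ext
  · simp
  · simp only [Category.assoc, prod.map_snd, prod.map_snd_assoc, spm_comp, bmap_qmap_self, spm_id,
      Category.comp_id, Category.id_comp]

lemma bX_qX_ne {i j : Fin (n + 1)} (h : j ≠ i) :
    bX T (fun _ : Fin 1 => j) ≫ qX T i = prod.fst ≫ zX T 0 := by
  apply prod.hom_ext
  · simp
  · simp only [Category.assoc, prod.map_snd, prod.map_snd_assoc, prod.lift_snd, spm_comp, bmap_qmap_ne h]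
    rw [← spm_comp, ← Category.assoc, ← Category.assoc]
    congr 1
    exact specULiftZIsTerminal.hom_ext _ _

/-- A punctured line over `T`. -/
abbrev DX (i : Fin (n + 1)) : (XB T n).Opens := (prod.snd : XB T n ⟶ Zs n) ⁻¹ᵁ Dz i

/-- The complement of the origin. -/
abbrev VX (n : ℕ) : (XB T n).Opens := ⨆ i : Fin (n + 1), DX T i

lemma DX_le (i : Fin (n + 1)) : DX T i ≤ VX T n := le_iSup (fun i => DX T i) i

lemma exists_DX {x : XB T n} (h : x ∈ VX T n) : ∃ i, x ∈ DX T i := TopologicalSpace.Opens.mem_iSup.1 h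

lemma DX_disjoint {i j : Fin (n + 1)} (h : i ≠ j) (x : XB T n) (hi : x ∈ DX T i) (hj : x ∈ DX T j) : False := by
  let y : PrimeSpectrum (BR.{u} n) := (prod.snd : XB T n ⟶ Zs n) x
  have h0 : aB i * aB j ∈ y.asIdeal := by rw [aB_mul_aB h]; exact Ideal.zero_mem _
  rcases y.isPrime.mem_or_mem h0 with h' | h'
  · exact hi h'
  · exact hj h'

lemma mem_DX_bX {σ : Fin (m + 1) → Fin (n + 1)} (hσ : Function.Injective σ) (i : Fin (m + 1)) (x : XB T m) :
    bX T σ x ∈ DX T (σ i) ↔ x ∈ DX T i := by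
  change (bX T σ ≫ prod.snd) x ∈ Dz (σ i) ↔ prod.snd (C := Scheme.{u}) x ∈ Dz i
  rw [prod.map_snd, Scheme.Hom.comp_apply]
  rw [spm_mem, bmap_aB_self hσ, mem_Dz]

lemma mem_VX_bX {σ : Fin (m + 1) → Fin (n + 1)} (hσ : Function.Injective σ) (x : XB T m) :
    bX T σ x ∈ VX T n ↔ x ∈ VX T m := by
  constructor
  · intro h
    obtain ⟨k, hk⟩ := exists_DX T h
    by_cases hr : ∃ i, σ i = k
    · obtain ⟨i, rfl⟩ := hr
      exact DX_le T i ((mem_DX_bX T hσ i x).1 hk)
    · exfalso
      change (bX T σ ≫ prod.snd) x ∈ Dz k at hk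
      rw [prod.map_snd, Scheme.Hom.comp_apply] at hk
      rw [spm_mem] at hk
      rw [bmap_aB_zero fun i hi => hr ⟨i, hi⟩] at hk
      exact hk (Ideal.zero_mem _)
  · intro h
    obtain ⟨i, hi⟩ := exists_DX T h
    exact DX_le T (σ i) ((mem_DX_bX T hσ i x).2 hi)

lemma mem_DX_qX (i : Fin (n + 1)) (x : XB T n) : qX T i x ∈ DX T 0 ↔ x ∈ DX T i := by
  change (qX T i ≫ prod.snd) x ∈ Dz 0 ↔ prod.snd (C := Scheme.{u}) x ∈ Dz i
  rw [prod.map_snd, Scheme.Hom.comp_apply]
  rw [spm_mem, qmap_aB, mem_Dz]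

lemma zX_not_mem (t : T) : zX T n t ∉ VX T n := by
  intro h
  obtain ⟨i, hi⟩ := exists_DX T h
  change (zX T n ≫ prod.snd) t ∈ Dz i at hi
  rw [prod.lift_snd, Scheme.Hom.comp_apply] at hi
  rw [spm_mem] at hi
  rw [oB_aB] at hi
  exact hi (Ideal.zero_mem _)

/-- On a punctured line the projection followed by the inclusion is the identity. -/
lemma DX_qX_bX (i : Fin (n + 1)) :
    (DX T i).ι ≫ qX T i ≫ bX T (fun _ : Fin 1 => i) = (DX T i).ι := by
  have hrange : Set.range ((DX T i).ι ≫ (prod.snd : XB T n ⟶ Zs n)) ⊆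
      Set.range (spm (algebraMap (BR.{u} n) (Localization.Away (aB.{u} i)))) := by
    rintro _ ⟨x, rfl⟩
    rw [show Set.range (spm (algebraMap (BR.{u} n) (Localization.Away (aB.{u} i)))) =
      (PrimeSpectrum.basicOpen (aB.{u} i) : Set (PrimeSpectrum (BR.{u} n))) from
      PrimeSpectrum.localization_away_comap_range (Localization.Away (aB.{u} i)) (aB i)]
    exact x.2
  haveI : IsOpenImmersion (spm (algebraMap (BR.{u} n) (Localization.Away (aB.{u} i)))) :=
    inferInstanceAs (IsOpenImmersion (Spec.map (CommRingCat.ofHom (algebraMap _ _))))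
  apply prod.hom_ext
  · simp
  · simp only [Category.assoc, prod.map_snd, prod.map_snd_assoc, spm_comp]
    obtain ⟨L, hL⟩ : ∃ L, L ≫ spm (algebraMap (BR.{u} n) (Localization.Away (aB.{u} i))) =
        (DX T i).ι ≫ (prod.snd : XB T n ⟶ Zs n) := ⟨_, IsOpenImmersion.lift_fac _ _ hrange⟩
    rw [← Category.assoc, ← hL, Category.assoc, spm_comp]
    congr 2
    refine RingHom.ext fun f => ?_
    have h := congrArg (algebraMap (BR.{u} n) (Localization.Away (aB.{u} i))) (aB_mul_sub i f)
    rw [map_mul, map_zero, (IsLocalization.Away.algebraMap_isUnit (aB.{u} i)).mul_right_eq_zero, map_sub,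
      sub_eq_zero] at h
    exact h.symm

/-- The map of the base ring. -/
def iR (R : Type u) [CommRing R] : R0.{u} →+* R := (Int.castRingHom R).comp ULift.ringEquiv.toRingHom

/-- The line ring over an affine base. -/
def lineR (R : Type u) [CommRing R] : BR.{u} 0 →+* Polynomial R := (Polynomial.mapRingHom (iR R)).comp (proj 0)

lemma lineR_aB (R : Type u) [CommRing R] : lineR R (aB.{u} 0) = X := by
  change Polynomial.map (iR R) (proj 0 (aB 0)) = X
  rw [proj_aB, if_pos rfl, Polynomial.map_X]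

lemma lineR_ev (R : Type u) [CommRing R] :
    (IsoNatClean.ev R).comp (lineR R) = (iR R).comp (oB 0) := RingHom.ext fun f => by
  change Polynomial.eval 0 (Polynomial.map (iR R) (proj 0 f)) = iR R (Polynomial.eval 0 (proj 0 f))
  rw [← map_zero (iR R), Polynomial.eval_map_apply]

end IsoNatAut
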