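import Groth.Agent.IsoNatAut.Two
import Groth.Agent.IsoNatAut.Branch
import Groth.Agent.IsoNatUnr.Deform

/-!
# Crossing lines with a doubled origin over a base, and constant cocycles
-/

set_option autoImplicit false
set_option backward.isDefEq.respectTransparency false
set_option backward.isDefEq.respectTransparency.types false

universe u

open CategoryTheory CategoryTheory.Limits AlgebraicGeometry AlgSp FibCat FibLib AlgStLib IsoNat IsoNatLib IsoNatUnr
open IsoNatClean
open CategoryTheory.Functor (Fiber IsStronglyCartesian)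

noncomputable section

namespace IsoNatAut

section Doubled

variable {X : Scheme.{u}} (V : X.Opens)

/-- A scheme with the complement of an open subscheme doubled. -/
abbrev Dd : Scheme.{u} := pushout V.ι V.ι

instance : IsOpenImmersion (pushout.inl V.ι V.ι) :=
  inferInstanceAs (IsOpenImmersion (colimit.ι (span V.ι V.ι) WalkingSpan.left))

instance : IsOpenImmersion (pushout.inr V.ι V.ι) :=
  inferInstanceAs (IsOpenImmersion (colimit.ι (span V.ι V.ι) WalkingSpan.right))

lemma dd_surj (x : Dd V) : x ∈ Set.range (pushout.inl V.ι V.ι) ∨ x ∈ Set.range (pushout.inr V.ι V.ι) := by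
  obtain ⟨i, xi, rfl⟩ := Scheme.IsLocallyDirected.ι_jointly_surjective (span V.ι V.ι) x
  rcases i with _ | (_ | _)
  · refine Or.inl ⟨V.ι xi, ?_⟩
    rw [← Scheme.Hom.comp_apply]
    exact congrArg (fun f => f xi) (colimit.w (span V.ι V.ι) (WalkingSpan.Hom.fst))
  · exact Or.inl ⟨xi, rfl⟩
  · exact Or.inr ⟨xi, rfl⟩

lemma dd_mem {x y : X} (h : pushout.inl V.ι V.ι x = pushout.inr V.ι V.ι y) : x ∈ V := by
  obtain ⟨k, fi, fj, z, hz, -⟩ := (Scheme.IsLocallyDirected.ι_eq_ι_iff (span V.ι V.ι)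
    (i := WalkingSpan.left) (j := WalkingSpan.right)).1 h
  rcases k with _ | (_ | _)
  · obtain rfl : fi = WalkingSpan.Hom.fst := Subsingleton.elim _ _
    rw [← hz]
    exact z.2
  · exact nomatch fj
  · exact nomatch fi

lemma dd_lim {Z : Scheme.{u}} (a b : Z ⟶ X) (h : a ≫ pushout.inl V.ι V.ι = b ≫ pushout.inr V.ι V.ι) :
    ∃ c : Z ⟶ V.toScheme, c ≫ V.ι = a ∧ c ≫ V.ι = b := by
  have hle : Set.range a ⊆ Set.range V.ι := by
    rw [Scheme.Opens.range_ι]
    rintro _ ⟨t, rfl⟩
    exact dd_mem V (y := b t) (by rw [← Scheme.Hom.comp_apply, h, Scheme.Hom.comp_apply])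
  let c := IsOpenImmersion.lift V.ι a hle
  have hc : c ≫ V.ι = a := IsOpenImmersion.lift_fac _ _ _
  refine ⟨c, hc, (cancel_mono (pushout.inr V.ι V.ι)).1 ?_⟩
  rw [Category.assoc, ← pushout.condition, reassoc_of% hc, h]

end Doubled

lemma sq_aux {A B E D X Y : Scheme.{u}} {a : A ⟶ B} {b : B ⟶ D} {c : A ⟶ E} {d : E ⟶ D} {ι : D ⟶ Y} {ιA : A ⟶ X}
    {f : X ⟶ Y} {ιB : B ⟶ X} {ιE : E ⟶ Y} (ha : a ≫ ιB = ιA) (hb : b ≫ ι = ιB ≫ f) (hc : c ≫ ιE = ιA ≫ f)
    (hd : d ≫ ι = ιE) : (a ≫ b) ≫ ι = (c ≫ d) ≫ ι := by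
  rw [Category.assoc, Category.assoc, hb, hd, hc, ← Category.assoc, ha]

variable {S : Scheme.{u}} (T : Over S) {n m l : ℕ}

/-- The crossing lines over the base. -/
abbrev oXn (n : ℕ) : Over T := oU (prod.fst : XB T.left n ⟶ T.left)

/-- The punctured crossing lines over the base. -/
abbrev oVn (n : ℕ) : Over T := oU ((VX T.left n).ι ≫ (prod.fst : XB T.left n ⟶ T.left))

/-- The crossing lines with a doubled origin over the base. -/
abbrev oDn (n : ℕ) : Over T :=
  oU (pushout.desc (prod.fst : XB T.left n ⟶ T.left) prod.fst rfl : Dd (VX T.left n) ⟶ T.left)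

/-- Crossing lines with a doubled origin. -/
def st (n : ℕ) : Two T where
  oX := oXn T n
  oV := oVn T n
  oD := oDn T n
  i₁ := oHom (pushout.inl _ _) (pushout.inl_desc _ _ _)
  i₂ := oHom (pushout.inr _ _) (pushout.inr_desc _ _ _)
  n := oHom (VX T.left n).ι rfl
  comm := Over.OverMorphism.ext (Over.OverMorphism.ext (pushout.condition (f := (VX T.left n).ι) (g := (VX T.left n).ι)))
  op₁ := inferInstanceAs (IsOpenImmersion (pushout.inl (VX T.left n).ι (VX T.left n).ι))
  op₂ := inferInstanceAs (IsOpenImmersion (pushout.inr (VX T.left n).ι (VX T.left n).ι))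
  opn := inferInstanceAs (IsOpenImmersion (VX T.left n).ι)
  cover := dd_surj _
  lim := fun Z a b h => by
    obtain ⟨c, hc₁, hc₂⟩ := dd_lim _ a.left b.left (congrArg Over.Hom.left h)
    refine ⟨Over.homMk c ?_, Over.OverMorphism.ext hc₁, Over.OverMorphism.ext hc₂⟩
    change c ≫ ((VX T.left n).ι ≫ prod.fst) ≫ T.hom = Z.hom
    rw [Category.assoc, reassoc_of% hc₁]
    exact Over.w a
  ne := by
    by_cases hT : IsEmpty T.left
    · haveI := hT
      exact Or.inl (Function.isEmpty (prod.fst : XB T.left n ⟶ T.left))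
    · refine Or.inr fun ⟨l, hl⟩ => ?_
      obtain ⟨t⟩ := not_isEmpty_iff.1 hT
      obtain ⟨c, -, hc⟩ := dd_lim (VX T.left n) l.left (𝟙 _)
        (by rw [Category.id_comp]; exact congrArg Over.Hom.left hl)
      refine zX_not_mem T.left (n := n) t ?_
      rw [show zX T.left n t = (c ≫ (VX T.left n).ι) (zX T.left n t) by rw [hc]; rfl, Scheme.Hom.comp_apply]
      exact (c _).2

/-- The base over itself. -/
abbrev o1 : Over T := Over.mk (𝟙 T)

/-- The origin. -/
def oz (n : ℕ) : o1 T ⟶ (st T n).oX :=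
  Over.homMk (Over.homMk (zX T.left n) (by
    change zX T.left n ≫ prod.fst ≫ T.hom = T.hom
    rw [prod.lift_fst_assoc, Category.id_comp])) (Over.OverMorphism.ext (prod.lift_fst _ _))

/-- A punctured line over the base. -/
abbrev oP (i : Fin (n + 1)) : Over T := oU ((DX T.left i).ι ≫ (prod.fst : XB T.left n ⟶ T.left))

/-- The inclusion of a punctured line. -/
def dV (i : Fin (n + 1)) : oP T i ⟶ (st T n).oV :=
  oHom ((XB T.left n).homOfLE (DX_le T.left i)) (Scheme.homOfLE_ι_assoc _ (DX_le T.left i) _)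

/-- The inclusion of a punctured line in the lines. -/
def dX (i : Fin (n + 1)) : oP T i ⟶ (st T n).oX := oHom (DX T.left i).ι rfl

lemma dV_n (i : Fin (n + 1)) : dV T i ≫ (st T n).n = dX T i :=
  Over.OverMorphism.ext (Over.OverMorphism.ext (Scheme.homOfLE_ι _ (DX_le T.left i)))

/-- The inclusion of lines. -/
def sX (σ : Fin (m + 1) → Fin (n + 1)) : (st T m).oX ⟶ (st T n).oX :=
  oHom (bX T.left σ) ((prod.map_fst _ _).trans (Category.comp_id _))

lemma range_VX {σ : Fin (m + 1) → Fin (n + 1)} (hσ : Function.Injective σ) :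
    Set.range ((VX T.left m).ι ≫ bX T.left σ) ⊆ Set.range (VX T.left n).ι := by
  rintro _ ⟨x, rfl⟩
  exact ⟨⟨_, (mem_VX_bX T.left hσ _).2 x.2⟩, rfl⟩

/-- The inclusion of punctured lines. -/
def sV {σ : Fin (m + 1) → Fin (n + 1)} (hσ : Function.Injective σ) : (st T m).oV ⟶ (st T n).oV :=
  oHom (IsOpenImmersion.lift (VX T.left n).ι ((VX T.left m).ι ≫ bX T.left σ) (range_VX T hσ)) (by
    rw [IsOpenImmersion.lift_fac_assoc, Category.assoc, prod.map_fst, Category.comp_id])

lemma sV_fac {σ : Fin (m + 1) → Fin (n + 1)} (hσ : Function.Injective σ) :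
    (sV T hσ).left.left ≫ (VX T.left n).ι = (VX T.left m).ι ≫ bX T.left σ := IsOpenImmersion.lift_fac _ _ _

lemma sV_n {σ : Fin (m + 1) → Fin (n + 1)} (hσ : Function.Injective σ) :
    (st T m).n ≫ sX T σ = sV T hσ ≫ (st T n).n :=
  Over.OverMorphism.ext (Over.OverMorphism.ext (sV_fac T hσ).symm)

/-- The inclusion of doubled lines. -/
def sD {σ : Fin (m + 1) → Fin (n + 1)} (hσ : Function.Injective σ) : (st T m).oD ⟶ (st T n).oD :=
  oHom (pushout.desc (bX T.left σ ≫ pushout.inl _ _) (bX T.left σ ≫ pushout.inr _ _) (by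
      rw [← Category.assoc, ← sV_fac T hσ, Category.assoc, pushout.condition, ← Category.assoc, sV_fac T hσ,
        Category.assoc]))
    (by
      apply pushout.hom_ext
      · rw [pushout.inl_desc_assoc, Category.assoc, pushout.inl_desc, pushout.inl_desc, prod.map_fst,
          Category.comp_id]
      · rw [pushout.inr_desc_assoc, Category.assoc, pushout.inr_desc, pushout.inr_desc, prod.map_fst,
          Category.comp_id])

lemma sD_i₁ {σ : Fin (m + 1) → Fin (n + 1)} (hσ : Function.Injective σ) :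
    (st T m).i₁ ≫ sD T hσ = sX T σ ≫ (st T n).i₁ :=
  Over.OverMorphism.ext (Over.OverMorphism.ext (pushout.inl_desc _ _ _))

lemma sD_i₂ {σ : Fin (m + 1) → Fin (n + 1)} (hσ : Function.Injective σ) :
    (st T m).i₂ ≫ sD T hσ = sX T σ ≫ (st T n).i₂ :=
  Over.OverMorphism.ext (Over.OverMorphism.ext (pushout.inr_desc _ _ _))

lemma oz_sX (σ : Fin (m + 1) → Fin (n + 1)) : oz T m ≫ sX T σ = oz T n :=
  Over.OverMorphism.ext (Over.OverMorphism.ext (zX_bX T.left σ))

/-- The map of punctured lines along an inclusion of lines. -/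
def pσ {σ : Fin (m + 1) → Fin (n + 1)} (hσ : Function.Injective σ) (i : Fin (m + 1)) : oP T i ⟶ oP T (σ i) :=
  oHom (IsOpenImmersion.lift (DX T.left (σ i)).ι ((DX T.left i).ι ≫ bX T.left σ) (by
      rintro _ ⟨x, rfl⟩
      exact ⟨⟨_, (mem_DX_bX T.left hσ i _).2 x.2⟩, rfl⟩)) (by
    rw [IsOpenImmersion.lift_fac_assoc, Category.assoc, prod.map_fst, Category.comp_id])

lemma pσ_dV {σ : Fin (m + 1) → Fin (n + 1)} (hσ : Function.Injective σ) (i : Fin (m + 1)) :
    dV T i ≫ sV T hσ = pσ T hσ i ≫ dV T (σ i) := by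
  refine Over.OverMorphism.ext (Over.OverMorphism.ext ((cancel_mono (VX T.left n).ι).1 ?_))
  exact sq_aux (Scheme.homOfLE_ι _ (DX_le T.left i)) (sV_fac T hσ) (IsOpenImmersion.lift_fac _ _ _)
    (Scheme.homOfLE_ι _ (DX_le T.left (σ i)))

/-- The projection to a line. -/
def qo (i : Fin (n + 1)) : (st T n).oX ⟶ (st T 0).oX :=
  oHom (qX T.left i) ((prod.map_fst _ _).trans (Category.comp_id _))

lemma sX_qo_self (i : Fin (n + 1)) : sX T (fun _ : Fin 1 => i) ≫ qo T i = 𝟙 _ :=
  Over.OverMorphism.ext (Over.OverMorphism.ext (bX_qX_self T.left i))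

lemma oz_qo (i : Fin (n + 1)) : oz T n ≫ qo T i = oz T 0 :=
  Over.OverMorphism.ext (Over.OverMorphism.ext (zX_qX T.left i))

lemma dX_qo_sX (i : Fin (n + 1)) : dX T i ≫ qo T i ≫ sX T (fun _ : Fin 1 => i) = dX T i :=
  Over.OverMorphism.ext (Over.OverMorphism.ext (DX_qX_bX T.left i))

lemma dX_qo_ne {i j : Fin (n + 1)} (h : i ≠ j) : dX T i ≫ qo T j = toId (oP T i) ≫ oz T 0 := by
  rw [← dX_qo_sX T i, Category.assoc, Category.assoc]
  refine Over.OverMorphism.ext (Over.OverMorphism.ext ?_)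
  change (DX T.left i).ι ≫ qX T.left i ≫ bX T.left (fun _ : Fin 1 => i) ≫ qX T.left j =
    ((DX T.left i).ι ≫ prod.fst) ≫ zX T.left 0
  rw [bX_qX_ne T.left h, prod.map_fst_assoc, Category.id_comp, Category.assoc]

/-- A punctured line projects to the punctured line. -/
def dq (i : Fin (n + 1)) : oP T i ⟶ (st T 0).oV :=
  oHom (IsOpenImmersion.lift (VX T.left 0).ι ((DX T.left i).ι ≫ qX T.left i) (by
      rintro _ ⟨x, rfl⟩
      exact ⟨⟨_, DX_le T.left 0 ((mem_DX_qX T.left i _).2 x.2)⟩, rfl⟩)) (by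
    rw [IsOpenImmersion.lift_fac_assoc, Category.assoc, prod.map_fst, Category.comp_id])

lemma dq_n (i : Fin (n + 1)) : dq T i ≫ (st T 0).n = dX T i ≫ qo T i :=
  Over.OverMorphism.ext (Over.OverMorphism.ext (IsOpenImmersion.lift_fac _ _ _))

lemma inj_single (i : Fin (n + 1)) : Function.Injective (fun _ : Fin 1 => i) := fun a b _ => Subsingleton.elim a b

lemma dq_sV (i : Fin (n + 1)) : dq T i ≫ sV T (inj_single i) = dV T i := by
  refine Over.OverMorphism.ext (Over.OverMorphism.ext ((cancel_mono (VX T.left n).ι).1 ?_))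
  change ((dq T i).left.left ≫ (sV T (inj_single i)).left.left) ≫ (VX T.left n).ι =
    (XB T.left n).homOfLE (DX_le T.left i) ≫ (VX T.left n).ι
  rw [Category.assoc, sV_fac, Scheme.homOfLE_ι _ (DX_le T.left i)]
  erw [← Category.assoc, IsOpenImmersion.lift_fac, Category.assoc]
  exact DX_qX_bX T.left i

end IsoNatAut
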