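import Groth.Agent.IsoNatAut.Twist
import Groth.Agent.IsoNatClean.Space
import Groth.Agent.IsoNatUnr.AutTriv

/-!
# Abelian automorphism groups through isomorphisms of presheaves of classes
-/

set_option autoImplicit false
set_option backward.isDefEq.respectTransparency false
set_option backward.isDefEq.respectTransparency.types false

universe u

open CategoryTheory CategoryTheory.Limits AlgebraicGeometry AlgSp FibCat FibLib AlgStLib IsoNat IsoNatLib IsoNatUnr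
open IsoNatClean
open CategoryTheory.Functor (Fiber IsStronglyCartesian)

noncomputable section

namespace IsoNatAut

variable {S : Scheme.{u}} {𝒳 𝒴 : AlgSt.Cat S} [IsFibGrpd 𝒳.p] [IsFibGrpd 𝒴.p] {T : Over S} {n m : ℕ}

instance instGroupG (Y : overCat T ⥤ᵇ 𝒳) : Group (G Y) where
  mul := G.mul Y
  one := G.one Y
  inv := G.inv Y
  mul_assoc a b c := Subtype.ext (Category.assoc a.1 b.1 c.1)
  one_mul a := Subtype.ext (Category.id_comp a.1)
  mul_one a := Subtype.ext (Category.comp_id a.1)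
  inv_mul_cancel a := Subtype.ext (G.inv_mul Y a)

/-- An object with a separated sheaf of automorphisms. -/
structure Pt (𝒳 : AlgSt.Cat S) [IsFibGrpd 𝒳.p] (T : Over S) where
  /-- the object -/
  Y : overCat T ⥤ᵇ 𝒳
  hst : Stk.IsStack (AlgSp.J S) 𝒳
  /-- the sheaf of automorphisms -/
  H : Sp S
  /-- its structure map -/
  aH : H ⟶ (yon S).obj T
  /-- the classification -/
  Cl : IsoNatLib.Classifier (inertiaToBase (toSelf 𝒳)) (yV Y) aH
  hsep : AlgSp.IsSeparatedMor aH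

namespace Pt

/-- The class of a constant cocycle. -/
abbrev c (P : Pt 𝒳 T) (g : Fin (n + 1) → G P.Y) : IsoCl 𝒳 (st T n).oD.left := cls (IsoNatAut.tw P.Y P.Cl P.hst g)

lemma c_eq_iff (P : Pt 𝒳 T) (g g' : Fin (n + 1) → G P.Y) :
    P.c g = P.c g' ↔ ∃ h h' : G P.Y, ∀ i, h * g' i = g i * h' :=
  (cls_tw_eq_iff P.Y P.Cl P.hsep g g').trans
    ⟨fun ⟨h, h', e⟩ => ⟨h, h', fun i => Subtype.ext (e i)⟩,
      fun ⟨h, h', e⟩ => ⟨h, h', fun i => congrArg Subtype.val (e i)⟩⟩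

variable {φ : FIso 𝒳 𝒴} {P : Pt 𝒳 T} {Q : Pt 𝒴 T}

/-- The relation induced on constant cocycles. -/
def Rel (φ : FIso 𝒳 𝒴) (P : Pt 𝒳 T) (Q : Pt 𝒴 T) (g : Fin (n + 1) → G P.Y) (g' : Fin (n + 1) → G Q.Y) : Prop :=
  φ.toEquiv (st T n).oD.left (P.c g) = Q.c g'

variable (hPQ : φ.toEquiv T (objCls P.Y) = objCls Q.Y)

include hPQ in
lemma hPQ_symm : (symm φ).toEquiv T (objCls Q.Y) = objCls P.Y := by
  change (φ.toEquiv T).symm _ = _
  rw [← hPQ, Equiv.symm_apply_apply]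

include hPQ in
lemma good_transfer {z : 𝒳.p.Fiber (st T n).oD.left} {z' : 𝒴.p.Fiber (st T n).oD.left}
    (h : φ.toEquiv _ (cls z) = cls z') (hz : Good P.Y z) : Good Q.Y z' := by
  obtain ⟨⟨⟨k₁, hk₁⟩, k₂, hk₂⟩, hl⟩ := hz
  refine ⟨⟨?_, ?_⟩, fun i => ?_⟩
  · obtain ⟨b, hb⟩ := exists_hom_transport φ _
      (x' := Fiber.mk (p := 𝒳.p) (a := P.Y.obj (st T n).oX) (P.Y.w_obj _)) (x := z) k₁ hk₁
      (cls_value φ hPQ (st T n).oX) h
    exact ⟨b, hb⟩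
  · obtain ⟨b, hb⟩ := exists_hom_transport φ _
      (x' := Fiber.mk (p := 𝒳.p) (a := P.Y.obj (st T n).oX) (P.Y.w_obj _)) (x := z) k₂ hk₂
      (cls_value φ hPQ (st T n).oX) h
    exact ⟨b, hb⟩
  · obtain ⟨q, hq⟩ := hl i
    obtain ⟨b, hb⟩ := exists_hom_transport φ _
      (x' := Fiber.mk (p := 𝒳.p) (a := P.Y.obj (st T 0).oD) (P.Y.w_obj _)) (x := z) q hq
      (cls_value φ hPQ (st T 0).oD) h
    exact ⟨b, hb⟩

include hPQ in
lemma exists_rel (g : Fin (n + 1) → G P.Y) : ∃ g', Rel φ P Q g g' := by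
  obtain ⟨z', hz'⟩ := Quotient.exists_rep (φ.toEquiv _ (P.c g))
  obtain ⟨g', hg'⟩ := classify (hst := Q.hst) Q.Y Q.Cl
    (good_transfer hPQ hz'.symm (good_tw P.Y P.Cl g))
  exact ⟨g', hz'.symm.trans hg'⟩

include hPQ in
lemma exists_rel' (g' : Fin (n + 1) → G Q.Y) : ∃ g, Rel φ P Q g g' := by
  obtain ⟨g, hg⟩ := exists_rel (φ := symm φ) (P := Q) (Q := P) (hPQ_symm hPQ) g'
  refine ⟨g, ?_⟩
  change φ.toEquiv _ _ = _
  rw [← show (φ.toEquiv _).symm (Q.c g') = P.c g from hg, Equiv.apply_symm_apply]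

lemma Rel.pull {g : Fin (n + 1) → G P.Y} {g' : Fin (n + 1) → G Q.Y} (h : Rel φ P Q g g')
    {σ : Fin (m + 1) → Fin (n + 1)} (hσ : Function.Injective σ) : Rel φ P Q (g ∘ σ) (g' ∘ σ) := by
  obtain ⟨z, q, hq⟩ := exists_pullback (sD T hσ).left (IsoNatAut.tw P.Y P.Cl P.hst g)
  have e : cls z = P.c (g ∘ σ) := cls_pull_tw P.Y P.Cl hσ g rfl q hq
  obtain ⟨z', hz'⟩ := Quotient.exists_rep (φ.toEquiv _ (cls z))
  obtain ⟨b, hb⟩ := exists_hom_transport φ (sD T hσ).left q hq hz'.symm h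
  have e' : cls z' = Q.c (g' ∘ σ) := cls_pull_tw Q.Y Q.Cl hσ g' rfl b hb
  change φ.toEquiv _ (P.c _) = _
  rw [← e, ← e']
  exact hz'.symm

lemma Rel.inj {g₁ g₂ : Fin (n + 1) → G P.Y} {g₁' g₂' : Fin (n + 1) → G Q.Y} (h₁ : Rel φ P Q g₁ g₁')
    (h₂ : Rel φ P Q g₂ g₂') : P.c g₁ = P.c g₂ ↔ Q.c g₁' = Q.c g₂' := by
  rw [← h₁, ← h₂, Equiv.apply_eq_iff_eq]

lemma i02 : Function.Injective (![0, 2] : Fin 2 → Fin 3) := by decide

lemma i12 : Function.Injective (![1, 2] : Fin 2 → Fin 3) := by decide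

lemma i01 : Function.Injective (![0, 1] : Fin 2 → Fin 3) := by decide

lemma comp02 {α : Type*} (g : Fin 3 → α) : g ∘ ![0, 2] = ![g 0, g 2] := by
  funext i; fin_cases i <;> rfl

lemma comp12 {α : Type*} (g : Fin 3 → α) : g ∘ ![1, 2] = ![g 1, g 2] := by
  funext i; fin_cases i <;> rfl

lemma comp01 {α : Type*} (g : Fin 3 → α) : g ∘ ![0, 1] = ![g 0, g 1] := by
  funext i; fin_cases i <;> rfl

/-- The automorphisms commute. -/
def IsComm (P : Pt 𝒳 T) : Prop := ∀ a b : G P.Y, a * b = b * a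

/-- Classes on three lines are detected on two pairs of lines. -/
def Det (P : Pt 𝒳 T) : Prop :=
  ∀ g g' : Fin 3 → G P.Y, P.c (g ∘ ![0, 2]) = P.c (g' ∘ ![0, 2]) → P.c (g ∘ ![1, 2]) = P.c (g' ∘ ![1, 2]) →
    P.c g = P.c g'

theorem isComm_iff_det : P.IsComm ↔ P.Det := by
  constructor
  · intro hc g g' h02 h12
    letI : CommGroup (G P.Y) := { instGroupG P.Y with mul_comm := hc }
    rw [c_eq_iff] at h02 h12 ⊢
    obtain ⟨h, k, e⟩ := h02
    obtain ⟨h', k', e'⟩ := h12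
    refine ⟨h, k, fun i => ?_⟩
    fin_cases i
    · exact e 0
    · have a : h' * g' 1 = g 1 * k' := e' 0
      have b : h' * g' 2 = g 2 * k' := e' 1
      have d : h * g' 2 = g 2 * k := e 1
      have t : h' * k = h * k' := by
        have : g 2 * (h' * k) = g 2 * (h * k') := by
          rw [mul_left_comm (g 2) h', ← d, mul_left_comm (g 2) h, ← b, mul_left_comm h' h]
        exact mul_left_cancel this
      have : h' * (h * g' 1) = h' * (g 1 * k) := by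
        rw [mul_left_comm h' h, a, mul_left_comm h (g 1), mul_left_comm h' (g 1), ← t]
      exact mul_left_cancel this
    · exact e 1
  · intro hd x a
    have h1 := hd ![a, a, 1] ![a, x * a * x⁻¹, 1] (by rw [comp02, comp02]; rfl) (by
      rw [comp12, comp12, c_eq_iff]
      refine ⟨x⁻¹, x⁻¹, fun i => ?_⟩
      fin_cases i
      · show x⁻¹ * (x * a * x⁻¹) = a * x⁻¹
        group
      · show x⁻¹ * 1 = 1 * x⁻¹
        group)
    rw [c_eq_iff] at h1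
    obtain ⟨h, k, e⟩ := h1
    have e0 : h * a = a * k := e 0
    have e1 : h * (x * a * x⁻¹) = a * k := e 1
    have := mul_left_cancel (e1.trans e0.symm)
    rwa [mul_inv_eq_iff_eq_mul] at this

include hPQ in
theorem det_transfer (h : P.Det) : Q.Det := by
  intro g' f' h02 h12
  obtain ⟨g, hg⟩ := exists_rel' hPQ g'
  obtain ⟨f, hf⟩ := exists_rel' hPQ f'
  exact (hg.inj hf).1 (h g f (((hg.pull i02).inj (hf.pull i02)).2 h02) (((hg.pull i12).inj (hf.pull i12)).2 h12))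

include hPQ in
theorem isComm_transfer (h : P.IsComm) : Q.IsComm :=
  isComm_iff_det.2 (det_transfer hPQ (isComm_iff_det.1 h))

lemma c_pair (P : Pt 𝒳 T) (a b : G P.Y) : P.c ![a * b⁻¹, 1] = P.c ![a, b] := by
  rw [c_eq_iff]
  refine ⟨1, b, fun i => ?_⟩
  fin_cases i
  · show 1 * a = a * b⁻¹ * b
    group
  · show 1 * b = 1 * b
    rfl

lemma c_pair_inj (hc : P.IsComm) {a b : G P.Y} (h : P.c ![a, 1] = P.c ![b, 1]) : a = b := by
  rw [c_eq_iff] at h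
  obtain ⟨h, k, e⟩ := h
  have e1 : h * 1 = 1 * k := e 1
  have e0 : h * b = a * k := e 0
  rw [mul_one, one_mul] at e1
  rw [← e1, hc h b] at e0
  exact (mul_right_cancel e0).symm

include hPQ in
lemma existsUnique_pair (hc : P.IsComm) (a : G P.Y) : ∃! b, Rel φ P Q ![a, 1] ![b, 1] := by
  obtain ⟨g', hg'⟩ := exists_rel hPQ ![a, 1]
  have e : g' = ![g' 0, g' 1] := by funext i; fin_cases i <;> rfl
  rw [e] at hg'
  refine ⟨g' 0 * (g' 1)⁻¹, hg'.trans (c_pair Q _ _).symm, fun b hb => ?_⟩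
  exact c_pair_inj (isComm_transfer hPQ hc) (hb.symm.trans (hg'.trans (c_pair Q _ _).symm))

include hPQ in
theorem nonempty_mulEquiv (hc : P.IsComm) : Nonempty (G P.Y ≃* G Q.Y) := by
  choose ψ hψ huniq using fun a => existsUnique_pair hPQ hc a
  have hdiv : ∀ a b, ψ (a * b⁻¹) = ψ a * (ψ b)⁻¹ := by
    intro a b
    obtain ⟨g', hg'⟩ := exists_rel hPQ ![a, b, 1]
    have r02 := hg'.pull i02
    have r12 := hg'.pull i12
    have r01 := hg'.pull i01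
    rw [comp02, comp02] at r02
    rw [comp12, comp12] at r12
    rw [comp01, comp01] at r01
    have ha : g' 0 * (g' 2)⁻¹ = ψ a := huniq a _ (r02.trans (c_pair Q _ _).symm)
    have hb : g' 1 * (g' 2)⁻¹ = ψ b := huniq b _ (r12.trans (c_pair Q _ _).symm)
    have hab : g' 0 * (g' 1)⁻¹ = ψ (a * b⁻¹) := by
      refine huniq _ _ ?_
      change φ.toEquiv _ _ = _
      rw [c_pair, c_pair]
      exact r01
    rw [← ha, ← hb, ← hab]
    group
  let f : G P.Y →* G Q.Y := MonoidHom.ofMapMulInv ψ hdiv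
  refine ⟨MulEquiv.ofBijective f ⟨fun a b e => ?_, fun b => ?_⟩⟩
  · change ψ a = ψ b at e
    exact c_pair_inj hc (((hψ a).inj (hψ b)).2 (by rw [e]))
  · obtain ⟨g, hg⟩ := exists_rel' hPQ ![b, 1]
    have e : g = ![g 0, g 1] := by funext i; fin_cases i <;> rfl
    rw [e] at hg
    refine ⟨g 0 * (g 1)⁻¹, (huniq _ _ ?_).symm⟩
    change φ.toEquiv _ _ = _
    rw [c_pair]
    exact hg

end Pt

lemma exists_pt (hst : Stk.IsStack (AlgSp.J S) 𝒳)
    (hd : AlgSt.RepByAlgSpWith (AlgSp.IsSeparatedMor ⊓ AlgSp.IsQuasiCompactMor) (diag (toSelf 𝒳)))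
    (x : 𝒳.p.Fiber T) : ∃ P : Pt 𝒳 T, objCls P.Y = cls x ∧ Nonempty (yV P.Y ≅ x) := by
  haveI : IsFibGrpd (inertia (toSelf 𝒳)).p :=
    FibLib.isFibGrpd_inertia (FibLib.preservesStronglyCartesian_of_isFibGrpd _)
  let Y : overCat T ⥤ᵇ 𝒳 := ofPoint x
  obtain ⟨H, aH, -, hsep, -, ⟨Cl⟩⟩ := exists_classifier (separated_inertia hd) (yV Y)
  obtain ⟨e⟩ := nonempty_evalAtId_ofPoint_iso x
  exact ⟨⟨Y, hst, H, aH, Cl, hsep⟩, Quotient.sound ⟨e⟩, ⟨e⟩⟩

/-- Automorphisms in the fibre and vertical endomorphisms. -/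
def autEquiv (Y : overCat T ⥤ᵇ 𝒳) : Aut (yV Y) ≃* G Y where
  toFun f := ⟨f.inv.1, f.inv.2⟩
  invFun g :=
    haveI : 𝒳.p.IsHomLift (𝟙 T) g.1 := g.2
    haveI : IsIso g.1 := isIso_of_isHomLift 𝒳.p (𝟙 T) g.1
    (fiberIso 𝒳.p (a := yV Y) (b := yV Y) (asIso g.1) (by assumption)).symm
  left_inv f := Iso.ext_inv (Subtype.ext rfl)
  right_inv g := Subtype.ext rfl
  map_mul' f g := Subtype.ext rfl

lemma exists_autEquiv (hst : Stk.IsStack (AlgSp.J S) 𝒳)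
    (hd : AlgSt.RepByAlgSpWith (AlgSp.IsSeparatedMor ⊓ AlgSp.IsQuasiCompactMor) (diag (toSelf 𝒳)))
    (x : 𝒳.p.Fiber T) : ∃ P : Pt 𝒳 T, objCls P.Y = cls x ∧ Nonempty (Aut x ≃* G P.Y) := by
  obtain ⟨P, hP, ⟨e⟩⟩ := exists_pt hst hd x
  exact ⟨P, hP, ⟨(Iso.conjAut e.symm).trans (autEquiv P.Y)⟩⟩

/-- Commutativity of automorphism groups is transported. -/
theorem comm_transfer (hX : Stk.IsStack (AlgSp.J S) 𝒳) (hY : Stk.IsStack (AlgSp.J S) 𝒴)
    (hdX : AlgSt.RepByAlgSpWith (AlgSp.IsSeparatedMor ⊓ AlgSp.IsQuasiCompactMor) (diag (toSelf 𝒳)))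
    (hdY : AlgSt.RepByAlgSpWith (AlgSp.IsSeparatedMor ⊓ AlgSp.IsQuasiCompactMor) (diag (toSelf 𝒴)))
    (φ : FIso 𝒳 𝒴) {x : 𝒳.p.Fiber T} {y : 𝒴.p.Fiber T} (h : φ.toEquiv T (cls x) = cls y)
    (hc : ∀ s t : Aut x, s * t = t * s) : ∀ s t : Aut y, s * t = t * s := by
  obtain ⟨P, hP, ⟨eP⟩⟩ := exists_autEquiv hX hdX x
  obtain ⟨Q, hQ, ⟨eQ⟩⟩ := exists_autEquiv hY hdY y
  have hPQ : φ.toEquiv T (objCls P.Y) = objCls Q.Y := by rw [hP, hQ]; exact h
  have hP' : P.IsComm := fun a b => by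
    apply eP.symm.injective
    rw [map_mul, map_mul, hc]
  intro s t
  apply eQ.injective
  rw [map_mul, map_mul, Pt.isComm_transfer hPQ hP']

/-- Abelian automorphism sheaves are transported. -/
theorem isAutAbelian_transfer (hX : Stk.IsStack (AlgSp.J S) 𝒳) (hY : Stk.IsStack (AlgSp.J S) 𝒴)
    (hdX : AlgSt.RepByAlgSpWith (AlgSp.IsSeparatedMor ⊓ AlgSp.IsQuasiCompactMor) (diag (toSelf 𝒳)))
    (hdY : AlgSt.RepByAlgSpWith (AlgSp.IsSeparatedMor ⊓ AlgSp.IsQuasiCompactMor) (diag (toSelf 𝒴)))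
    (φ : FIso 𝒳 𝒴) {η : 𝒳.p.Fiber T} {η' : 𝒴.p.Fiber T} (h : φ.toEquiv T (cls η) = cls η')
    (hab : IsAutAbelian η) : IsAutAbelian η' := by
  intro T' y b
  let g : T' ⟶ T := eqToHom y.2.symm ≫ 𝒴.p.map b ≫ eqToHom η'.2
  have hb : 𝒴.p.IsHomLift g b := IsHomLift.of_fac 𝒴.p g b y.2 η'.2 rfl
  obtain ⟨x, a, ha⟩ := exists_pullback g η
  obtain ⟨z, hz⟩ := Quotient.exists_rep (φ.toEquiv T' (cls x))
  obtain ⟨b', hb'⟩ := exists_hom_transport φ g a ha hz.symm h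
  exact comm_transfer hX hY hdX hdY φ (hz.symm.trans (cls_eq_of_pullbacks rfl b' hb' b hb)) (hab T' x a)

/-- The automorphism group is transported when abelian. -/
theorem nonempty_aut_mulEquiv (hX : Stk.IsStack (AlgSp.J S) 𝒳) (hY : Stk.IsStack (AlgSp.J S) 𝒴)
    (hdX : AlgSt.RepByAlgSpWith (AlgSp.IsSeparatedMor ⊓ AlgSp.IsQuasiCompactMor) (diag (toSelf 𝒳)))
    (hdY : AlgSt.RepByAlgSpWith (AlgSp.IsSeparatedMor ⊓ AlgSp.IsQuasiCompactMor) (diag (toSelf 𝒴)))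
    (φ : FIso 𝒳 𝒴) {η : 𝒳.p.Fiber T} {η' : 𝒴.p.Fiber T} (h : φ.toEquiv T (cls η) = cls η')
    (hab : IsAutAbelian η) : Nonempty (Aut η ≃* Aut η') := by
  obtain ⟨P, hP, ⟨eP⟩⟩ := exists_autEquiv hX hdX η
  obtain ⟨Q, hQ, ⟨eQ⟩⟩ := exists_autEquiv hY hdY η'
  have hPQ : φ.toEquiv T (objCls P.Y) = objCls Q.Y := by rw [hP, hQ]; exact h
  obtain ⟨ψ⟩ := Pt.nonempty_mulEquiv hPQ (fun a b => by
    apply eP.symm.injective
    rw [map_mul, map_mul, hab T η (𝟙 _)])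
  exact ⟨(eP.trans ψ).trans eQ.symm⟩

end IsoNatAut
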