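import Groth.Agent.IsoNatAut.Setup

/-!
# Classes given by constant cocycles on crossing lines
-/

set_option autoImplicit false
set_option backward.isDefEq.respectTransparency false
set_option backward.isDefEq.respectTransparency.types false

universe u

open CategoryTheory CategoryTheory.Limits AlgebraicGeometry AlgSp FibCat FibLib AlgStLib IsoNat IsoNatLib IsoNatUnr
open IsoNatClean
open CategoryTheory.Functor (Fiber IsStronglyCartesian)
open Polynomial (X C)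

noncomputable section

namespace IsoNatAut

variable {S : Scheme.{u}} {𝒳 : AlgSt.Cat S} {T : Over S} (Y : overCat T ⥤ᵇ 𝒳) {n m : ℕ}

/-- A vertical endomorphism of the value. -/
abbrev G := {g : Y.obj (o1 T) ⟶ Y.obj (o1 T) // 𝒳.p.IsHomLift (𝟙 (o1 T).left) g}

/-- The identity. -/
abbrev G.one : G Y := ⟨𝟙 _, lift_id Y (o1 T)⟩

variable [IsFibGrpd 𝒳.p]

/-- Composition. -/
abbrev G.mul (g h : G Y) : G Y := ⟨g.1 ≫ h.1, comp_vert Y g.2 h.2⟩

/-- The inverse. -/
def G.inv (g : G Y) : G Y :=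
  haveI := g.2
  haveI : IsIso g.1 := isIso_of_isHomLift 𝒳.p (𝟙 (o1 T).left) g.1
  ⟨CategoryTheory.inv g.1, @IsHomLift.lift_id_inv _ _ _ _ 𝒳.p _ _ _ (asIso g.1) g.2⟩

lemma G.inv_mul (g : G Y) : (G.inv Y g).1 ≫ g.1 = 𝟙 _ := by
  haveI := g.2
  haveI : IsIso g.1 := isIso_of_isHomLift 𝒳.p (𝟙 (o1 T).left) g.1
  exact IsIso.inv_hom_id g.1

lemma G.mul_inv (g : G Y) : g.1 ≫ (G.inv Y g).1 = 𝟙 _ := by
  haveI := g.2
  haveI : IsIso g.1 := isIso_of_isHomLift 𝒳.p (𝟙 (o1 T).left) g.1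
  exact IsIso.hom_inv_id g.1

/-- A constant endomorphism. -/
abbrev cst (o : Over T) (g : G Y) : Y.obj o ⟶ Y.obj o := pbv Y (toId o) g.1 g.2

lemma cst_lift (o : Over T) (g : G Y) : 𝒳.p.IsHomLift (𝟙 o.left) (cst Y o g) := pbv_lift _ _ _ _

lemma pbv_cst {o o' : Over T} (k : o ⟶ o') (g : G Y) : pbv Y k (cst Y o' g) (cst_lift Y o' g) = cst Y o g :=
  (pbv_pbv Y k (toId o') g.1 g.2).trans (pbv_congr Y (comp_toId k) g.1 g.2)

lemma cst_mul (o : Over T) (g h : G Y) : cst Y o g ≫ cst Y o h = cst Y o (G.mul Y g h) :=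
  (pbv_mul Y (toId o) g.1 h.1 g.2 h.2).symm

lemma cst_congr (o : Over T) {g h : G Y} (e : g.1 = h.1) : cst Y o g = cst Y o h := by
  rw [Subtype.ext e]

lemma cst_one (o : Over T) : cst Y o (G.one Y) = 𝟙 _ := pbv_one Y (toId o)

lemma cst_o1 (g : G Y) : cst Y (o1 T) g = g.1 := by
  refine (pbv_congr Y (Over.OverMorphism.ext rfl : toId (o1 T) = 𝟙 _) g.1 g.2).trans (pbv_idmap Y g.1 g.2)

variable {H : Sp S} {aH : H ⟶ (yon S).obj T} (Cl : IsoNatLib.Classifier (inertiaToBase (toSelf 𝒳)) (yV Y) aH)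

lemma hoiP (i : ULift.{u} (Fin (n + 1))) : IsOpenImmersion (dV T i.down).left.left :=
  inferInstanceAs (IsOpenImmersion ((XB T.left n).homOfLE (DX_le T.left i.down)))

lemma hsP (x : (st T n).oV.left.left) : ∃ i : ULift.{u} (Fin (n + 1)), x ∈ Set.range (dV T i.down).left.left := by
  obtain ⟨x, hx⟩ := x
  obtain ⟨i, hi⟩ := exists_DX T.left hx
  exact ⟨⟨i⟩, ⟨x, hi⟩, Subtype.ext (Scheme.homOfLE_apply (X := XB T.left n) (DX_le T.left i) ⟨x, hi⟩)⟩

include Cl in
/-- Endomorphisms on the punctured lines agree piecewise. -/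
lemma endo_ext {a b : Y.obj (st T n).oV ⟶ Y.obj (st T n).oV} (ha : 𝒳.p.IsHomLift (𝟙 (st T n).oV.left) a)
    (hb : 𝒳.p.IsHomLift (𝟙 (st T n).oV.left) b)
    (h : ∀ i, pbv Y (dV T i) a ha = pbv Y (dV T i) b hb) : a = b := by
  refine acls_inj Y Cl ha hb (AlgSpLib.hom_ext_of_cover (fun i : ULift.{u} (Fin (n + 1)) => (dV T i.down).left)
    (fun i => by haveI := hoiP (T := T) i; infer_instance)
    (fun i => by haveI := hoiP (T := T) i; infer_instance) hsP fun i => ?_)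
  rw [← acls_pbv, ← acls_pbv]
  exact acls_congr Y Cl _ _ (h i.down)

include Cl in
theorem exists_cc (g : Fin (n + 1) → G Y) :
    ∃ (a : Y.obj (st T n).oV ⟶ Y.obj (st T n).oV) (ha : 𝒳.p.IsHomLift (𝟙 (st T n).oV.left) a),
      ∀ i, pbv Y (dV T i) a ha = cst Y (oP T i) (g i) := by
  let c : ∀ i : ULift.{u} (Fin (n + 1)), (oP T i.down).left ⟶ (st T n).oV.left := fun i => (dV T i.down).left
  have hf : ∀ i, Flat (c i).left := fun i => by haveI := hoiP (T := T) i; infer_instance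
  have hp : ∀ i, LocallyOfFinitePresentation (c i).left := fun i => by haveI := hoiP (T := T) i; infer_instance
  let lc : ∀ i : ULift.{u} (Fin (n + 1)), (yon S).obj (oP T i.down).left ⟶ H := fun i =>
    acls Y Cl (oP T i.down) (cst Y _ (g i.down)) (cst_lift Y _ _)
  obtain ⟨t, ht⟩ := AlgSpLib.exists_amalgamation c hf hp hsP lc (fun i i' Z u v h => by
    by_cases hi : i = i'
    · subst hi
      haveI := hoiP (T := T) i
      haveI : Mono (c i) := (Over.forget S).mono_of_mono_map (inferInstanceAs (Mono (dV T i.down).left.left))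
      rw [(cancel_mono (c i)).1 h]
    · refine sec_ext_of_empty ⟨fun z => ?_⟩ _ _
      have e := congrArg (fun f => (f.left z).1) h
      simp only [Over.comp_left, Scheme.Hom.comp_apply] at e
      change ((XB T.left n).homOfLE (DX_le T.left i.down) (u.left z)).1 =
        ((XB T.left n).homOfLE (DX_le T.left i'.down) (v.left z)).1 at e
      simp only [Scheme.homOfLE_apply] at e
      exact DX_disjoint T.left (fun e' => hi (ULift.ext _ _ e')) _ (u.left z).2 (e.symm ▸ (v.left z).2))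
  obtain ⟨a, ha, hat⟩ := exists_of_acls Y Cl (st T n).oV t (by
    refine AlgSpLib.hom_ext_of_cover c hf hp hsP fun i => ?_
    rw [← Category.assoc, ht]
    change acls Y Cl _ _ _ ≫ aH = _
    rw [acls_comp, ← Functor.map_comp]
    exact congrArg _ (Over.w (dV T i.down)).symm)
  refine ⟨a, ha, fun i => acls_inj Y Cl (pbv_lift _ _ _ _) (cst_lift Y _ _) ?_⟩
  rw [acls_pbv, hat]
  exact ht ⟨i⟩

/-- The cocycle with given constant values. -/
def cc (g : Fin (n + 1) → G Y) : Y.obj (st T n).oV ⟶ Y.obj (st T n).oV := (exists_cc Y Cl g).choose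

lemma cc_lift (g : Fin (n + 1) → G Y) : 𝒳.p.IsHomLift (𝟙 (st T n).oV.left) (cc Y Cl g) :=
  (exists_cc Y Cl g).choose_spec.choose

lemma cc_spec (g : Fin (n + 1) → G Y) (i : Fin (n + 1)) :
    pbv Y (dV T i) (cc Y Cl g) (cc_lift Y Cl g) = cst Y (oP T i) (g i) :=
  (exists_cc Y Cl g).choose_spec.choose_spec i

lemma cc_const (g : G Y) : cc Y Cl (fun _ : Fin (n + 1) => g) = cst Y (st T n).oV g :=
  endo_ext Y Cl (cc_lift _ _ _) (cst_lift _ _ _) fun i => by rw [cc_spec, pbv_cst]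

lemma cc_pull {σ : Fin (m + 1) → Fin (n + 1)} (hσ : Function.Injective σ) (g : Fin (n + 1) → G Y) :
    pbv Y (sV T hσ) (cc Y Cl g) (cc_lift Y Cl g) = cc Y Cl (g ∘ σ) :=
  endo_ext Y Cl (pbv_lift _ _ _ _) (cc_lift _ _ _) fun i => by
    rw [pbv_pbv Y (dV T i) (sV T hσ), pbv_congr Y (pσ_dV T hσ i), ← pbv_pbv Y (pσ T hσ i) (dV T (σ i)),
      pbv_congr' Y (pσ T hσ i) (cc_spec Y Cl g (σ i)) _ (cst_lift _ _ _), pbv_cst, cc_spec]
    rfl

variable (hst : Stk.IsStack (AlgSp.J S) 𝒳)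

include Cl hst in
theorem exists_tw (g : Fin (n + 1) → G Y) : ∃ z, (st T n).Coc Y z (cc Y Cl g) :=
  (st T n).exists_coc Y Cl hst _ (cc_lift Y Cl g)

/-- The object with a constant cocycle. -/
def tw (g : Fin (n + 1) → G Y) : 𝒳.p.Fiber (st T n).oD.left := (exists_tw Y Cl hst g).choose

lemma tw_coc (g : Fin (n + 1) → G Y) : (st T n).Coc Y (tw Y Cl hst g) (cc Y Cl g) :=
  (exists_tw Y Cl hst g).choose_spec

include Cl in
/-- Endomorphisms agreeing on the punctured line agree at the origin. -/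
theorem eq_at_zero (hsep : AlgSp.IsSeparatedMor aH) {A B : Y.obj (st T 0).oX ⟶ Y.obj (st T 0).oX}
    (hA : 𝒳.p.IsHomLift (𝟙 (st T 0).oX.left) A) (hB : 𝒳.p.IsHomLift (𝟙 (st T 0).oX.left) B)
    (h : pbv Y (st T 0).n A hA = pbv Y (st T 0).n B hB) :
    pbv Y (oz T 0) A hA = pbv Y (oz T 0) B hB := by
  refine acls_inj Y Cl (pbv_lift _ _ _ _) (pbv_lift _ _ _ _) ?_
  rw [acls_pbv, acls_pbv]
  have aff : ∀ t : T.left, ∃ O : T.left.Opens, IsAffineOpen O ∧ t ∈ O := fun t => by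
    obtain ⟨O, hO, ht, -⟩ := exists_isAffineOpen_mem_and_subset (U := (⊤ : T.left.Opens)) (x := t) trivial
    exact ⟨O, hO, ht⟩
  choose O hO hmem using aff
  let c : ∀ t, Over.mk ((hO t).fromSpec ≫ T.hom) ⟶ T := fun t => Over.homMk (hO t).fromSpec rfl
  haveI : ∀ t, IsOpenImmersion (c t).left := fun t => inferInstanceAs (IsOpenImmersion (hO t).fromSpec)
  refine AlgSpLib.hom_ext_of_cover c (fun _ => inferInstance) (fun _ => inferInstance) (fun t => ⟨t, ?_⟩) fun t => ?_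
  · rw [show Set.range (c t).left = (O t : Set T.left) from (hO t).range_fromSpec]
    exact hmem t
  let R : Type u := Γ(T.left, O t)
  let OL : Over S := Over.mk (spm (C : R →+* Polynomial R) ≫ (hO t).fromSpec ≫ T.hom)
  let lc : OL ⟶ (st T 0).oX.left :=
    Over.homMk (prod.lift (spm (C : R →+* Polynomial R) ≫ (hO t).fromSpec) (spm (lineR R))) (by
      change prod.lift _ _ ≫ prod.fst ≫ T.hom = spm (C : R →+* Polynomial R) ≫ (hO t).fromSpec ≫ T.hom
      rw [prod.lift_fst_assoc, Category.assoc])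
  let OPl : Over S := Over.mk (IsoNatClean.jP R ≫ OL.hom)
  let jl : OPl ⟶ OL := Over.homMk (IsoNatClean.jP R) rfl
  have hrange : Set.range (jl ≫ lc).left ⊆ Set.range (VX T.left 0).ι := by
    rintro _ ⟨y, rfl⟩
    refine ⟨⟨_, DX_le T.left 0 ?_⟩, rfl⟩
    change ((jl ≫ lc).left ≫ prod.snd) y ∈ Dz 0
    rw [show (jl ≫ lc).left ≫ prod.snd = IsoNatClean.jP R ≫ spm (lineR R) from by
      change (IsoNatClean.jP R ≫ prod.lift _ _) ≫ prod.snd = _
      rw [Category.assoc, prod.lift_snd]]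
    rw [Scheme.Hom.comp_apply, spm_mem, lineR_aB]
    intro hmem
    exact y.isPrime.ne_top (Ideal.eq_top_of_isUnit_mem _ hmem
      (IsLocalization.Away.algebraMap_isUnit (Polynomial.X : Polynomial R)))
  let ml : OPl ⟶ (st T 0).oV.left :=
    Over.homMk (IsOpenImmersion.lift (VX T.left 0).ι (jl ≫ lc).left hrange) (by
      change _ ≫ ((VX T.left 0).ι ≫ prod.fst) ≫ T.hom = OPl.hom
      rw [Category.assoc, IsOpenImmersion.lift_fac_assoc]
      exact Over.w (jl ≫ lc))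
  have hml : ml ≫ (st T 0).n.left = jl ≫ lc := Over.OverMorphism.ext (IsOpenImmersion.lift_fac _ _ _)
  have hn : (yon S).map (st T 0).n.left ≫ acls Y Cl _ A hA = (yon S).map (st T 0).n.left ≫ acls Y Cl _ B hB := by
    rw [← acls_pbv, ← acls_pbv]
    exact acls_congr Y Cl _ _ h
  haveI : IsAffine OL.left := inferInstanceAs (IsAffine (Spec (.of (Polynomial R))))
  have hline : (yon S).map lc ≫ acls Y Cl _ A hA = (yon S).map lc ≫ acls Y Cl _ B hB := by
    refine eq_of_dominant hsep jl (IsoNatClean.jP_injective R) ?_ ?_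
    · rw [← Functor.map_comp_assoc, ← Functor.map_comp_assoc, ← hml, Functor.map_comp_assoc, hn,
        Functor.map_comp_assoc]
    · simp only [Category.assoc, acls_comp]
  let e : Over.mk ((hO t).fromSpec ≫ T.hom) ⟶ OL := Over.homMk (spm (IsoNatClean.ev R)) (by
    change spm _ ≫ spm _ ≫ (hO t).fromSpec ≫ T.hom = (hO t).fromSpec ≫ T.hom
    rw [← Category.assoc, spm_comp,
      show (IsoNatClean.ev R).comp C = RingHom.id R from RingHom.ext fun r => by simp, spm_id, Category.id_comp])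
  have he : c t ≫ (oz T 0).left = e ≫ lc := by
    refine Over.OverMorphism.ext ?_
    change (hO t).fromSpec ≫ zX T.left 0 = spm _ ≫ prod.lift _ _
    apply prod.hom_ext
    · simp only [Category.assoc, prod.lift_fst, Category.comp_id]
      rw [← Category.assoc, spm_comp,
        show (IsoNatClean.ev R).comp C = RingHom.id R from RingHom.ext fun r => by simp, spm_id]
      exact (Category.id_comp _).symm
    · simp only [Category.assoc, prod.lift_snd]
      rw [spm_comp, lineR_ev, ← spm_comp, ← Category.assoc]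
      congr 1
      exact specULiftZIsTerminal.hom_ext _ _
  rw [← Functor.map_comp_assoc, ← Functor.map_comp_assoc, he, Functor.map_comp_assoc, Functor.map_comp_assoc,
    hline]

variable {hst}

/-- Classes with constant cocycles agree exactly when the constants are related by translations. -/
theorem cls_tw_eq_iff (hsep : AlgSp.IsSeparatedMor aH) (g g' : Fin (n + 1) → G Y) :
    cls (tw Y Cl hst g) = cls (tw Y Cl hst g') ↔ ∃ h h' : G Y, ∀ i, h.1 ≫ (g' i).1 = (g i).1 ≫ h'.1 := by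
  constructor
  · intro e
    obtain ⟨h₁, h₂, hh₁, hh₂, he⟩ := Two.exists_of_cls_eq (cc_lift Y Cl g) (cc_lift Y Cl g')
      (tw_coc Y Cl hst g) (tw_coc Y Cl hst g') e
    refine ⟨⟨pbv Y (oz T n) h₁ hh₁, pbv_lift _ _ _ _⟩, ⟨pbv Y (oz T n) h₂ hh₂, pbv_lift _ _ _ _⟩, fun i => ?_⟩
    let σ : Fin 1 → Fin (n + 1) := fun _ => i
    let e₁ := pbv Y (sX T σ) h₁ hh₁
    let e₂ := pbv Y (sX T σ) h₂ hh₂
    have he₁ : 𝒳.p.IsHomLift (𝟙 (st T 0).oX.left) e₁ := pbv_lift _ _ _ _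
    have he₂ : 𝒳.p.IsHomLift (𝟙 (st T 0).oX.left) e₂ := pbv_lift _ _ _ _
    let A := e₁ ≫ cst Y (st T 0).oX (g' i)
    let B := cst Y (st T 0).oX (g i) ≫ e₂
    have hA : 𝒳.p.IsHomLift (𝟙 (st T 0).oX.left) A := comp_vert Y he₁ (cst_lift _ _ _)
    have hB : 𝒳.p.IsHomLift (𝟙 (st T 0).oX.left) B := comp_vert Y (cst_lift _ _ _) he₂
    have key : pbv Y (st T 0).n A hA = pbv Y (st T 0).n B hB := by
      rw [pbv_mul Y (st T 0).n e₁ _ he₁ (cst_lift _ _ _), pbv_mul Y (st T 0).n _ e₂ (cst_lift _ _ _) he₂,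
        pbv_cst, pbv_cst, pbv_pbv Y (st T 0).n (sX T σ), pbv_pbv Y (st T 0).n (sX T σ),
        pbv_congr Y (sV_n T (inj_single i)) h₁ hh₁, pbv_congr Y (sV_n T (inj_single i)) h₂ hh₂,
        ← pbv_pbv Y (sV T (inj_single i)) (st T n).n, ← pbv_pbv Y (sV T (inj_single i)) (st T n).n,
        ← cc_const Y Cl (g' i), ← cc_const Y Cl (g i)]
      change _ ≫ cc Y Cl (g' ∘ σ) = cc Y Cl (g ∘ σ) ≫ _
      rw [← cc_pull Y Cl (inj_single i) g', ← cc_pull Y Cl (inj_single i) g,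
        ← pbv_mul Y (sV T (inj_single i)) _ _ (pbv_lift _ _ _ _) (cc_lift _ _ _),
        ← pbv_mul Y (sV T (inj_single i)) _ _ (cc_lift _ _ _) (pbv_lift _ _ _ _)]
      exact pbv_congr' Y _ he _ _
    have := eq_at_zero Y Cl hsep hA hB key
    rw [pbv_mul Y (oz T 0) e₁ _ he₁ (cst_lift _ _ _), pbv_mul Y (oz T 0) _ e₂ (cst_lift _ _ _) he₂, pbv_cst,
      pbv_cst, cst_o1, cst_o1, pbv_pbv Y (oz T 0) (sX T σ), pbv_pbv Y (oz T 0) (sX T σ),
      pbv_congr Y (oz_sX T σ) h₁ hh₁, pbv_congr Y (oz_sX T σ) h₂ hh₂] at this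
    exact this
  · rintro ⟨h, h', e⟩
    refine Two.cls_eq_of_coc hst (cc_lift Y Cl g) (tw_coc Y Cl hst g) (tw_coc Y Cl hst g')
      (cst_lift Y _ h) (cst_lift Y _ h') (endo_ext Y Cl (comp_vert Y (pbv_lift _ _ _ _) (cc_lift _ _ _))
        (comp_vert Y (cc_lift _ _ _) (pbv_lift _ _ _ _)) fun i => ?_)
    rw [pbv_mul Y (dV T i) _ _ (pbv_lift _ _ _ _) (cc_lift _ _ _),
      pbv_mul Y (dV T i) _ _ (cc_lift _ _ _) (pbv_lift _ _ _ _), cc_spec, cc_spec,
      pbv_congr' Y (dV T i) (pbv_cst Y (st T n).n h) _ (cst_lift _ _ _),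
      pbv_congr' Y (dV T i) (pbv_cst Y (st T n).n h') _ (cst_lift _ _ _), pbv_cst, pbv_cst, cst_mul, cst_mul]
    exact cst_congr Y _ (e i)

/-- Pullbacks of classes with constant cocycles. -/
theorem cls_pull_tw {σ : Fin (m + 1) → Fin (n + 1)} (hσ : Function.Injective σ) (g : Fin (n + 1) → G Y)
    {z : 𝒳.p.Fiber (st T n).oD.left} (hz : cls z = cls (tw Y Cl hst g)) {z' : 𝒳.p.Fiber (st T m).oD.left}
    (q : z'.1 ⟶ z.1) (hq : 𝒳.p.IsHomLift (sD T hσ).left q) : cls z' = cls (tw Y Cl hst (g ∘ σ)) := by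
  obtain ⟨k, hk⟩ := exists_vert_of_cls_eq hz
  haveI := hk
  haveI := hq
  have hq' : 𝒳.p.IsHomLift (sD T hσ).left (q ≫ k.hom) :=
    IsHomLift.comp_lift_id_right 𝒳.p (sD T hσ).left q k.hom
  have hc := Two.coc_pullback (Y := Y) (sX T σ) (sV T hσ) (sD T hσ) (sD_i₁ T hσ) (sD_i₂ T hσ) (sV_n T hσ)
    (cc_lift Y Cl g) (tw_coc Y Cl hst g) (q ≫ k.hom) hq'
  refine Two.cls_eq_of_coc hst (pbv_lift _ _ _ _) hc (tw_coc Y Cl hst (g ∘ σ)) (lift_id Y _) (lift_id Y _) ?_
  rw [pbv_one, Category.id_comp, Category.comp_id, cc_pull]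

omit [IsFibGrpd 𝒳.p] in
/-- The class is trivial on both pieces and on every doubled line. -/
def Good (z : 𝒳.p.Fiber (st T n).oD.left) : Prop :=
  (st T n).Triv Y z ∧ ∀ i : Fin (n + 1), ∃ q : Y.obj (st T 0).oD ⟶ z.1,
    𝒳.p.IsHomLift (sD T (inj_single i)).left q

theorem good_tw (g : Fin (n + 1) → G Y) : Good Y (tw Y Cl hst g) := by
  refine ⟨(tw_coc Y Cl hst g).triv', fun i => ?_⟩
  obtain ⟨z', q, hq⟩ := exists_pullback (sD T (inj_single i)).left (tw Y Cl hst g)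
  have hc := Two.coc_pullback (Y := Y) (sX T _) (sV T (inj_single i)) (sD T (inj_single i))
    (sD_i₁ T (inj_single i)) (sD_i₂ T (inj_single i)) (sV_n T (inj_single i)) (cc_lift Y Cl g)
    (tw_coc Y Cl hst g) q hq
  have hcls : cls ((st T 0).triv Y) = cls z' := by
    refine Two.cls_eq_of_coc hst (lift_id Y _) ((st T 0).coc_triv Y) hc (lift_id Y _)
      (cst_lift Y (st T 0).oX (g i)) ?_
    rw [pbv_one, Category.id_comp, Category.id_comp, pbv_cst, cc_pull Y Cl (inj_single i) g]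
    exact cc_const Y Cl (g i)
  obtain ⟨k, hk⟩ := exists_vert_of_cls_eq hcls
  haveI := hk
  haveI := hq
  exact ⟨k.hom ≫ q, IsHomLift.comp_lift_id_left 𝒳.p (sD T (inj_single i)).left q k.hom⟩

include Cl in
/-- Classification of the classes trivial on both pieces and on the doubled lines. -/
theorem classify {z : 𝒳.p.Fiber (st T n).oD.left} (hz : Good Y z) :
    ∃ g, cls z = cls (tw Y Cl hst g) := by
  classical
  obtain ⟨a, ha, hc⟩ := (st T n).exists_coc_of_triv Y hz.1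
  have step : ∀ i : Fin (n + 1), ∃ (L : Y.obj (st T 0).oX ⟶ Y.obj (st T 0).oX)
      (hL : 𝒳.p.IsHomLift (𝟙 (st T 0).oX.left) L),
      pbv Y (sV T (inj_single i)) a ha = pbv Y (st T 0).n L hL := by
    intro i
    obtain ⟨z', q, hq⟩ := exists_pullback (sD T (inj_single i)).left z
    obtain ⟨m', hm'⟩ := hz.2 i
    haveI := hq
    haveI := hm'
    let k := IsStronglyCartesian.map 𝒳.p (sD T (inj_single i)).left q (g := 𝟙 _)
      (f' := (sD T (inj_single i)).left) (Category.id_comp _).symm m'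
    have hk : 𝒳.p.IsHomLift (𝟙 (st T 0).oD.left) k := IsStronglyCartesian.map_isHomLift 𝒳.p
      (sD T (inj_single i)).left q (g := 𝟙 _) (f' := (sD T (inj_single i)).left) (Category.id_comp _).symm m'
    have hcls : cls ((st T 0).triv Y) = cls z' := cls_eq_of_vert (x := (st T 0).triv Y) k hk
    have hc' := Two.coc_pullback (Y := Y) (sX T _) (sV T (inj_single i)) (sD T (inj_single i))
      (sD_i₁ T (inj_single i)) (sD_i₂ T (inj_single i)) (sV_n T (inj_single i)) ha hc q hq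
    obtain ⟨e₁, e₂, he₁, he₂, he⟩ :=
      Two.exists_of_cls_eq (lift_id Y _) (pbv_lift _ _ _ _) ((st T 0).coc_triv Y) hc' hcls
    haveI := he₁
    haveI : IsIso e₁ := isIso_of_isHomLift 𝒳.p (𝟙 (st T 0).oX.left) e₁
    have hi : 𝒳.p.IsHomLift (𝟙 (st T 0).oX.left) (inv e₁) :=
      @IsHomLift.lift_id_inv _ _ _ _ 𝒳.p _ _ _ (asIso e₁) he₁
    refine ⟨inv e₁ ≫ e₂, comp_vert Y hi he₂, ?_⟩
    rw [Category.id_comp] at he
    haveI := pbv_lift Y (st T 0).n e₁ he₁
    haveI : IsIso (pbv Y (st T 0).n e₁ he₁) :=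
      isIso_of_isHomLift 𝒳.p (𝟙 (st T 0).oV.left) (pbv Y (st T 0).n e₁ he₁)
    rw [← cancel_epi (pbv Y (st T 0).n e₁ he₁), he, ← pbv_mul Y (st T 0).n e₁ _ he₁ (comp_vert Y hi he₂)]
    exact pbv_congr' Y _ (IsIso.hom_inv_id_assoc e₁ e₂).symm _ _
  choose L hL hLa using step
  let g : Fin (n + 1) → G Y := fun i => ⟨pbv Y (oz T 0) (L i) (hL i), pbv_lift _ _ _ _⟩
  let N : ∀ _ : Fin (n + 1), Y.obj (st T 0).oX ⟶ Y.obj (st T 0).oX := fun i =>
    L i ≫ cst Y (st T 0).oX (G.inv Y (g i))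
  have hN : ∀ i, 𝒳.p.IsHomLift (𝟙 (st T 0).oX.left) (N i) := fun i => comp_vert Y (hL i) (cst_lift _ _ _)
  have hN0 : ∀ i, pbv Y (oz T 0) (N i) (hN i) = 𝟙 _ := fun i => by
    rw [pbv_mul Y (oz T 0) (L i) _ (hL i) (cst_lift _ _ _), pbv_cst, cst_o1]
    exact G.mul_inv Y (g i)
  have build : ∀ s : Finset (Fin (n + 1)), ∃ (h : Y.obj (st T n).oX ⟶ Y.obj (st T n).oX)
      (hh : 𝒳.p.IsHomLift (𝟙 (st T n).oX.left) h), ∀ i,
        (i ∈ s → pbv Y (dX T i) h hh = pbv Y (dX T i ≫ qo T i) (N i) (hN i)) ∧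
          (i ∉ s → pbv Y (dX T i) h hh = 𝟙 _) := by
    intro s
    induction s using Finset.induction with
    | empty => exact ⟨𝟙 _, lift_id Y _, fun i => ⟨fun h => absurd h (Finset.notMem_empty i), fun _ => pbv_one _ _⟩⟩
    | @insert j s hj ih =>
      obtain ⟨h, hh, hs⟩ := ih
      refine ⟨h ≫ pbv Y (qo T j) (N j) (hN j), comp_vert Y hh (pbv_lift _ _ _ _), fun i => ?_⟩
      rw [pbv_mul Y (dX T i) h _ hh (pbv_lift _ _ _ _), pbv_pbv Y (dX T i) (qo T j)]
      have other : i ≠ j → pbv Y (dX T i ≫ qo T j) (N j) (hN j) = 𝟙 _ := fun hij => by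
        rw [pbv_congr Y (dX_qo_ne T hij) (N j) (hN j), ← pbv_pbv Y (toId (oP T i)) (oz T 0),
          pbv_congr' Y (toId (oP T i)) (hN0 j) _ (lift_id Y _), pbv_one]
      constructor
      · intro hi
        rcases eq_or_ne i j with rfl | hij
        · rw [(hs i).2 hj, Category.id_comp]
        · rw [other hij, Category.comp_id, (hs i).1 (Finset.mem_of_mem_insert_of_ne hi hij)]
      · intro hi
        have hij : i ≠ j := fun e => hi (e ▸ Finset.mem_insert_self j s)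
        rw [other hij, Category.comp_id, (hs i).2 fun h' => hi (Finset.mem_insert_of_mem h')]
  obtain ⟨h, hh, hs⟩ := build Finset.univ
  refine ⟨g, Two.cls_eq_of_coc hst ha hc (tw_coc Y Cl hst g) hh (lift_id Y _)
    (endo_ext Y Cl (comp_vert Y (pbv_lift _ _ _ _) (cc_lift _ _ _)) (comp_vert Y ha (pbv_lift _ _ _ _)) fun i => ?_)⟩
  rw [pbv_mul Y (dV T i) _ _ (pbv_lift _ _ _ _) (cc_lift _ _ _), cc_spec, pbv_pbv Y (dV T i) (st T n).n,
    pbv_congr Y (dV_n T i) h hh, (hs i).1 (Finset.mem_univ i), pbv_mul Y (dV T i) a _ ha (pbv_lift _ _ _ _),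
    pbv_congr' Y (dV T i) (pbv_one Y (st T n).n) _ (lift_id Y _), pbv_one, Category.comp_id,
    pbv_congr Y (dq_sV T i).symm a ha, ← pbv_pbv Y (dq T i) (sV T (inj_single i)) a ha,
    pbv_congr' Y (dq T i) (hLa i) _ (pbv_lift _ _ _ _), pbv_pbv Y (dq T i) (st T 0).n,
    pbv_congr Y (dq_n T i) (L i) (hL i), ← pbv_cst Y (dX T i ≫ qo T i) (g i),
    ← pbv_mul Y (dX T i ≫ qo T i) _ _ (hN i) (cst_lift _ _ _)]
  refine pbv_congr' Y _ ?_ _ _
  rw [Category.assoc, cst_mul, cst_congr Y _ (h := G.one Y) (G.inv_mul Y (g i)), cst_one, Category.comp_id]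

end IsoNatAut
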