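import Groth.Agent.IsoNatClean.Ops
import Groth.Agent.IsoNatClean.Glue
import Groth.Agent.IsoNatClean.Main
import Groth.Agent.IsoNatUnr.Glue
import Groth.Agent.IsoNatLib.Cls

/-!
# Objects glued from two copies of a piece along a cocycle
-/

set_option autoImplicit false
set_option backward.isDefEq.respectTransparency false
set_option backward.isDefEq.respectTransparency.types false

universe u

open CategoryTheory CategoryTheory.Limits AlgebraicGeometry AlgSp FibCat FibLib AlgStLib IsoNat IsoNatLib IsoNatUnr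
open IsoNatClean
open CategoryTheory.Functor (Fiber IsStronglyCartesian)

noncomputable section

namespace IsoNatAut

variable {S : Scheme.{u}}

/-- A scheme covered by two copies of a piece, over a base. -/
structure Two (T : Over S) where
  /-- the piece -/
  oX : Over T
  /-- the overlap -/
  oV : Over T
  /-- the glued scheme -/
  oD : Over T
  /-- the first inclusion -/
  i₁ : oX ⟶ oD
  /-- the second inclusion -/
  i₂ : oX ⟶ oD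
  /-- the inclusion of the overlap -/
  n : oV ⟶ oX
  comm : n ≫ i₁ = n ≫ i₂
  [op₁ : IsOpenImmersion i₁.left.left]
  [op₂ : IsOpenImmersion i₂.left.left]
  [opn : IsOpenImmersion n.left.left]
  cover : ∀ x : oD.left.left, x ∈ Set.range i₁.left.left ∨ x ∈ Set.range i₂.left.left
  lim : ∀ (Z : Over S) (a b : Z ⟶ oX.left), a ≫ i₁.left = b ≫ i₂.left →
    ∃ c : Z ⟶ oV.left, c ≫ n.left = a ∧ c ≫ n.left = b
  ne : IsEmpty oX.left.left ∨ ¬ ∃ l : oX.left ⟶ oX.left, l ≫ i₁.left = i₂.left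

attribute [instance] Two.op₁ Two.op₂ Two.opn

namespace Two

variable {T : Over S} (P : Two T)

instance : Mono P.i₁.left := (Over.forget S).mono_of_mono_map (inferInstanceAs (Mono P.i₁.left.left))

instance : Mono P.i₂.left := (Over.forget S).mono_of_mono_map (inferInstanceAs (Mono P.i₂.left.left))

instance : Mono P.n.left := (Over.forget S).mono_of_mono_map (inferInstanceAs (Mono P.n.left.left))

/-- The two inclusions. -/
def incl (i : ULift.{u} Bool) : P.oX ⟶ P.oD := if i.down then P.i₁ else P.i₂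

instance isOpenImmersion_incl (i : ULift.{u} Bool) : IsOpenImmersion (P.incl i).left.left := by
  rcases i with ⟨_ | _⟩
  · exact P.op₂
  · exact P.op₁

lemma incl_cover (x : P.oD.left.left) : ∃ i, x ∈ Set.range (P.incl i).left.left :=
  (P.cover x).elim (fun h => ⟨⟨true⟩, h⟩) fun h => ⟨⟨false⟩, h⟩

variable {𝒳 : AlgSt.Cat S} [IsFibGrpd 𝒳.p] (Y : overCat T ⥤ᵇ 𝒳)

/-- The object glues two copies of the value by the cocycle. -/
def Coc (z : 𝒳.p.Fiber P.oD.left) (a : Y.obj P.oV ⟶ Y.obj P.oV) : Prop :=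
  ∃ (k₁ k₂ : Y.obj P.oX ⟶ z.1), 𝒳.p.IsHomLift P.i₁.left k₁ ∧ 𝒳.p.IsHomLift P.i₂.left k₂ ∧
    Y.map P.n ≫ k₁ = a ≫ Y.map P.n ≫ k₂

/-- The object is trivial on both pieces. -/
def Triv (z : 𝒳.p.Fiber P.oD.left) : Prop :=
  (∃ k : Y.obj P.oX ⟶ z.1, 𝒳.p.IsHomLift P.i₁.left k) ∧ ∃ k : Y.obj P.oX ⟶ z.1, 𝒳.p.IsHomLift P.i₂.left k

/-- The value on the glued scheme. -/
abbrev triv : 𝒳.p.Fiber P.oD.left := Fiber.mk (p := 𝒳.p) (a := Y.obj P.oD) (Y.w_obj _)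

omit [IsFibGrpd 𝒳.p] in
lemma coc_triv : P.Coc Y (P.triv Y) (𝟙 _) :=
  ⟨Y.map P.i₁, Y.map P.i₂, lift_map Y P.i₁, lift_map Y P.i₂, by
    rw [Category.id_comp, ← Y.toFunctor.map_comp, ← Y.toFunctor.map_comp, P.comm]⟩

omit [IsFibGrpd 𝒳.p] in
lemma Coc.triv' {z : 𝒳.p.Fiber P.oD.left} {a : Y.obj P.oV ⟶ Y.obj P.oV} (h : P.Coc Y z a) : P.Triv Y z :=
  let ⟨k₁, k₂, h₁, h₂, _⟩ := h
  ⟨⟨k₁, h₁⟩, k₂, h₂⟩

lemma exists_coc_of_triv {z : 𝒳.p.Fiber P.oD.left} (h : P.Triv Y z) :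
    ∃ (a : Y.obj P.oV ⟶ Y.obj P.oV) (_ : 𝒳.p.IsHomLift (𝟙 P.oV.left) a), P.Coc Y z a := by
  obtain ⟨⟨k₁, hk₁⟩, k₂, hk₂⟩ := h
  haveI := hk₁
  haveI := hk₂
  haveI := lift_map Y P.n
  haveI h2 : 𝒳.p.IsHomLift (P.n.left ≫ P.i₂.left) (Y.map P.n ≫ k₂) := inferInstance
  haveI h1 : 𝒳.p.IsHomLift (P.n.left ≫ P.i₂.left) (Y.map P.n ≫ k₁) := by
    have e : P.n.left ≫ P.i₂.left = P.n.left ≫ P.i₁.left := congrArg Over.Hom.left P.comm.symm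
    rw [e]; infer_instance
  exact ⟨IsStronglyCartesian.map 𝒳.p (P.n.left ≫ P.i₂.left) (Y.map P.n ≫ k₂) (g := 𝟙 P.oV.left)
      (f' := P.n.left ≫ P.i₂.left) (Category.id_comp _).symm (Y.map P.n ≫ k₁),
    IsStronglyCartesian.map_isHomLift 𝒳.p (P.n.left ≫ P.i₂.left) (Y.map P.n ≫ k₂) (g := 𝟙 P.oV.left)
      (f' := P.n.left ≫ P.i₂.left) (Category.id_comp _).symm (Y.map P.n ≫ k₁),
    k₁, k₂, hk₁, hk₂, (IsStronglyCartesian.fac 𝒳.p (P.n.left ≫ P.i₂.left) (Y.map P.n ≫ k₂) (g := 𝟙 P.oV.left)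
      (f' := P.n.left ≫ P.i₂.left) (Category.id_comp _).symm (Y.map P.n ≫ k₁)).symm⟩

variable {H : Sp S} {aH : H ⟶ (yon S).obj T} (C : IsoNatLib.Classifier (inertiaToBase (toSelf 𝒳)) (yV Y) aH)

include C in
/-- Every cocycle glues an object. -/
theorem exists_coc (hst : Stk.IsStack (AlgSp.J S) 𝒳) (a : Y.obj P.oV ⟶ Y.obj P.oV)
    (ha : 𝒳.p.IsHomLift (𝟙 P.oV.left) a) : ∃ z, P.Coc Y z a := by
  by_cases hE : IsEmpty P.oX.left.left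
  · haveI : IsEmpty P.oV.left.left := Function.isEmpty P.n.left.left
    refine ⟨P.triv Y, Y.map P.i₁, Y.map P.i₂, lift_map Y P.i₁, lift_map Y P.i₂, ?_⟩
    rw [acls_inj Y C ha (lift_id Y P.oV) (sec_ext_of_empty inferInstance _ _), Category.id_comp,
      ← Y.toFunctor.map_comp, ← Y.toFunctor.map_comp, P.comm]
  haveI hmono : Mono (P.n.left ≫ P.i₁.left) := mono_comp _ _
  let br : Over.mk (P.n.left ≫ P.i₁.left ≫ P.oD.hom) ⟶ P.oV :=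
    Over.homMk (𝟙 _) (by
      change 𝟙 _ ≫ P.oV.hom = P.n.left ≫ P.i₁.left ≫ P.oD.hom
      rw [Category.id_comp, Over.w P.i₁, Over.w P.n])
  let br' : P.oV ⟶ Over.mk (P.n.left ≫ P.i₁.left ≫ P.oD.hom) :=
    Over.homMk (𝟙 _) (by
      change 𝟙 _ ≫ P.n.left ≫ P.i₁.left ≫ P.oD.hom = P.oV.hom
      rw [Category.id_comp, Over.w P.i₁, Over.w P.n])
  let D : TwistData Y :=
    { X := P.oD.left, w := P.oD.hom, X₁ := P.oX.left, X₂ := P.oX.left, X₁₂ := P.oV.left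
      ι₁ := P.i₁.left, ι₂ := P.i₂.left, n₁ := P.n.left, n₂ := P.n.left
      comm := congrArg Over.Hom.left P.comm
      mono := hmono
      lim := P.lim
      ne := P.ne.resolve_left hE
      a := pbv Y br a ha
      ha := pbv_lift Y br a ha }
  have hR : D.R ∈ AlgSp.J S D.X := by
    refine GrothendieckTopology.superset_covering _ ?_ (AlgSpLib.ofArrows_mem_J (fun i => (P.incl i).left)
      (fun _ => inferInstance) (fun _ => inferInstance) P.incl_cover)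
    rintro Z g ⟨W', e, f', hf', rfl⟩
    obtain ⟨⟨_ | _⟩⟩ := hf'
    · exact (D.mem_R _).mpr (Or.inr ⟨e, rfl⟩)
    · exact (D.mem_R _).mpr (Or.inl ⟨e, rfl⟩)
  let X₀ : Over S := Over.mk (Scheme.emptyTo S)
  let j : X₀ ⟶ D.X := Over.homMk (Scheme.emptyTo _) (Scheme.empty_ext _ _)
  obtain ⟨z, k₁, k₂, -, hk₁, hk₂, -, hk12, -, -⟩ := D.exists_twist hst hR X₀ j (by
    intro o c d _
    haveI : IsEmpty X₀.left := inferInstanceAs (IsEmpty (∅ : Scheme.{u}))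
    haveI : IsEmpty o.left.left := Function.isEmpty d.left
    have e : pbv Y c D.a D.ha = 𝟙 _ :=
      acls_inj Y C (pbv_lift Y c D.a D.ha) (lift_id Y o) (sec_ext_of_empty inferInstance _ _)
    have hf := pbv_fac Y c D.a D.ha
    rw [e, Category.id_comp] at hf
    exact hf.symm)
  let b₁ : P.oX ⟶ D.L D.ι₁ := Over.homMk (𝟙 _) (by
    change 𝟙 _ ≫ P.i₁.left ≫ P.oD.hom = P.oX.hom
    rw [Category.id_comp, Over.w P.i₁])
  let b₂ : P.oX ⟶ D.L D.ι₂ := Over.homMk (𝟙 _) (by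
    change 𝟙 _ ≫ P.i₂.left ≫ P.oD.hom = P.oX.hom
    rw [Category.id_comp, Over.w P.i₂])
  have hK : ∀ {o : Over T} {g : P.oX.left ⟶ P.oD.left} (b : P.oX ⟶ o) (g' : o.left ⟶ P.oD.left)
      (k : Y.obj o ⟶ z.1), b.left ≫ g' = g → 𝒳.p.IsHomLift g' k → 𝒳.p.IsHomLift g (Y.map b ≫ k) :=
    fun b g' k e h => by haveI := h; haveI := lift_map Y b; subst e; infer_instance
  refine ⟨z, Y.map b₁ ≫ k₁, Y.map b₂ ≫ k₂, hK b₁ D.ι₁ k₁ (Category.id_comp _) hk₁,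
    hK b₂ D.ι₂ k₂ (Category.id_comp _) hk₂, ?_⟩
  let u₁ : Over.mk (D.n₁ ≫ D.ι₁ ≫ D.w) ⟶ D.L D.ι₁ := Over.homMk D.n₁ rfl
  let u₂ : Over.mk (D.n₁ ≫ D.ι₁ ≫ D.w) ⟶ D.L D.ι₂ := Over.homMk D.n₂ (by
    change D.n₂ ≫ D.ι₂ ≫ D.w = D.n₁ ≫ D.ι₁ ≫ D.w
    rw [← Category.assoc, ← D.comm, Category.assoc])
  have e : Y.map br' ≫ Y.map u₁ ≫ k₁ = Y.map br' ≫ D.a ≫ Y.map u₂ ≫ k₂ :=
    congrArg (Y.map br' ≫ ·) (hk12 u₁ u₂ rfl rfl)
  have e1 : Y.map br' ≫ Y.map u₁ = Y.map P.n ≫ Y.map b₁ := by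
    rw [← Y.toFunctor.map_comp, ← Y.toFunctor.map_comp]
    exact congrArg (fun k => Y.map k) (Over.OverMorphism.ext
      ((Category.id_comp _).trans (Category.comp_id _).symm))
  have e2 : Y.map br' ≫ Y.map u₂ = Y.map P.n ≫ Y.map b₂ := by
    rw [← Y.toFunctor.map_comp, ← Y.toFunctor.map_comp]
    exact congrArg (fun k => Y.map k) (Over.OverMorphism.ext
      ((Category.id_comp _).trans (Category.comp_id _).symm))
  have e3 : Y.map br' ≫ D.a = a ≫ Y.map br' := by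
    change Y.map br' ≫ pbv Y br a ha = a ≫ Y.map br'
    rw [← pbv_comp Y br' br a ha,
      pbv_congr Y (show br' ≫ br = 𝟙 P.oV from Over.OverMorphism.ext (Category.id_comp _)) a ha, pbv_idmap]
  rw [← Category.assoc, e1, Category.assoc, ← Category.assoc (Y.map br'), e3, Category.assoc,
    ← Category.assoc (Y.map br'), e2, Category.assoc] at e
  exact e

variable {P Y}

/-- Cohomologous cocycles give the same class. -/
theorem cls_eq_of_coc (hst : Stk.IsStack (AlgSp.J S) 𝒳) {z z' : 𝒳.p.Fiber P.oD.left}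
    {a a' : Y.obj P.oV ⟶ Y.obj P.oV} (ha : 𝒳.p.IsHomLift (𝟙 P.oV.left) a)
    (h : P.Coc Y z a) (h' : P.Coc Y z' a') {h₁ h₂ : Y.obj P.oX ⟶ Y.obj P.oX}
    (hh₁ : 𝒳.p.IsHomLift (𝟙 P.oX.left) h₁) (hh₂ : 𝒳.p.IsHomLift (𝟙 P.oX.left) h₂)
    (e : pbv Y P.n h₁ hh₁ ≫ a' = a ≫ pbv Y P.n h₂ hh₂) : cls z = cls z' := by
  obtain ⟨k₁, k₂, hk₁, hk₂, hk⟩ := h
  obtain ⟨k₁', k₂', hk₁', hk₂', hk'⟩ := h'
  let p : ULift.{u} Bool → (Y.obj P.oX ⟶ z.1) := fun i => if i.down then k₁ else k₂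
  let f : ULift.{u} Bool → (Y.obj P.oX ⟶ z'.1) := fun i => if i.down then h₁ ≫ k₁' else h₂ ≫ k₂'
  have hp : ∀ i, 𝒳.p.IsHomLift (P.incl i).left (p i) := fun i => by
    rcases i with ⟨_ | _⟩
    · exact hk₂
    · exact hk₁
  have hf : ∀ i, 𝒳.p.IsHomLift (P.incl i).left (f i) := fun i => by
    haveI := hk₁'; haveI := hk₂'; haveI := hh₁; haveI := hh₂
    rcases i with ⟨_ | _⟩
    · exact IsHomLift.comp_lift_id_left 𝒳.p P.i₂.left k₂' h₂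
    · exact IsHomLift.comp_lift_id_left 𝒳.p P.i₁.left k₁' h₁
  have cross : ∀ {b : 𝒳.obj} (u v : b ⟶ Y.obj P.oX), u ≫ k₁ = v ≫ k₂ → u ≫ h₁ ≫ k₁' = v ≫ h₂ ≫ k₂' := by
    intro b u v euv
    have hw : 𝒳.p.obj (Y.obj P.oX) = P.oX.left := Y.w_obj _
    let bu : 𝒳.p.obj b ⟶ P.oX.left := 𝒳.p.map u ≫ eqToHom hw
    let bv : 𝒳.p.obj b ⟶ P.oX.left := 𝒳.p.map v ≫ eqToHom hw
    haveI lu : 𝒳.p.IsHomLift bu u := IsHomLift.of_fac' 𝒳.p bu u rfl hw (by simp [bu])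
    haveI lv : 𝒳.p.IsHomLift bv v := IsHomLift.of_fac' 𝒳.p bv v rfl hw (by simp [bv])
    haveI := hk₁
    haveI := hk₂
    have hb : bu ≫ P.i₁.left = bv ≫ P.i₂.left := by
      haveI h1 : 𝒳.p.IsHomLift (bu ≫ P.i₁.left) (u ≫ k₁) := inferInstance
      haveI h2 : 𝒳.p.IsHomLift (bv ≫ P.i₂.left) (v ≫ k₂) := inferInstance
      rw [euv] at h1
      exact IsoNatLib.eq_of_lifts 𝒳.p _ h1 h2
    obtain ⟨c, hcu, hcv⟩ := P.lim _ bu bv hb
    haveI := lift_map Y P.n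
    let θu := IsStronglyCartesian.map 𝒳.p P.n.left (Y.map P.n) (g := c) (f' := bu) hcu.symm u
    let θv := IsStronglyCartesian.map 𝒳.p P.n.left (Y.map P.n) (g := c) (f' := bv) hcv.symm v
    have eu : θu ≫ Y.map P.n = u := IsStronglyCartesian.fac 𝒳.p P.n.left (Y.map P.n) (g := c) (f' := bu) hcu.symm u
    have ev : θv ≫ Y.map P.n = v := IsStronglyCartesian.fac 𝒳.p P.n.left (Y.map P.n) (g := c) (f' := bv) hcv.symm v
    haveI : 𝒳.p.IsHomLift c θu :=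
      IsStronglyCartesian.map_isHomLift 𝒳.p P.n.left (Y.map P.n) (g := c) (f' := bu) hcu.symm u
    haveI : 𝒳.p.IsHomLift c θv :=
      IsStronglyCartesian.map_isHomLift 𝒳.p P.n.left (Y.map P.n) (g := c) (f' := bv) hcv.symm v
    haveI := ha
    haveI : 𝒳.p.IsHomLift c (θu ≫ a) := IsHomLift.comp_lift_id_right 𝒳.p c θu a
    haveI : 𝒳.p.IsHomLift (P.n.left ≫ P.i₂.left) (Y.map P.n ≫ k₂) := inferInstance
    have eθ : θu ≫ a = θv := by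
      apply IsStronglyCartesian.ext 𝒳.p (P.n.left ≫ P.i₂.left) (Y.map P.n ≫ k₂) c
      rw [Category.assoc, ← hk, ← Category.assoc, eu, euv, ← Category.assoc, ev]
    calc u ≫ h₁ ≫ k₁' = θu ≫ Y.map P.n ≫ h₁ ≫ k₁' := by rw [← Category.assoc θu, eu]
      _ = θu ≫ pbv Y P.n h₁ hh₁ ≫ Y.map P.n ≫ k₁' := by
        rw [← Category.assoc (Y.map P.n) h₁, ← pbv_fac Y P.n h₁ hh₁, Category.assoc]
      _ = θu ≫ (pbv Y P.n h₁ hh₁ ≫ a') ≫ Y.map P.n ≫ k₂' := by rw [hk', Category.assoc]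
      _ = θv ≫ pbv Y P.n h₂ hh₂ ≫ Y.map P.n ≫ k₂' := by rw [e, ← eθ]; simp only [Category.assoc]
      _ = θv ≫ Y.map P.n ≫ h₂ ≫ k₂' := by
        rw [← Category.assoc (pbv Y P.n h₂ hh₂), pbv_fac, Category.assoc]
      _ = v ≫ h₂ ≫ k₂' := by rw [← Category.assoc θv, ev]
  obtain ⟨m, hm, -⟩ := exists_hom_of_pieces hst z z' (fun i => (P.incl i).left) (fun _ => inferInstance)
    (fun _ => inferInstance) P.incl_cover p hp f hf (fun b i j u v euv => by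
      rcases i with ⟨_ | _⟩ <;> rcases j with ⟨_ | _⟩
      · haveI := hk₂
        haveI : Mono (𝒳.p.map k₂) := by rw [IsHomLift.fac' 𝒳.p P.i₂.left k₂]; infer_instance
        rw [eq_of_comp_eq k₂ euv]
      · exact (cross v u euv.symm).symm
      · exact cross u v euv
      · haveI := hk₁
        haveI : Mono (𝒳.p.map k₁) := by rw [IsHomLift.fac' 𝒳.p P.i₁.left k₁]; infer_instance
        rw [eq_of_comp_eq k₁ euv])
  haveI := hm
  exact cls_eq_of_vert m hm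

/-- Objects with the same class have cohomologous cocycles. -/
theorem exists_of_cls_eq {z z' : 𝒳.p.Fiber P.oD.left} {a a' : Y.obj P.oV ⟶ Y.obj P.oV}
    (ha : 𝒳.p.IsHomLift (𝟙 P.oV.left) a) (ha' : 𝒳.p.IsHomLift (𝟙 P.oV.left) a') (h : P.Coc Y z a)
    (h' : P.Coc Y z' a') (e : cls z = cls z') :
    ∃ (h₁ h₂ : Y.obj P.oX ⟶ Y.obj P.oX) (hh₁ : 𝒳.p.IsHomLift (𝟙 P.oX.left) h₁)
      (hh₂ : 𝒳.p.IsHomLift (𝟙 P.oX.left) h₂), pbv Y P.n h₁ hh₁ ≫ a' = a ≫ pbv Y P.n h₂ hh₂ := by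
  obtain ⟨mi, hmi⟩ := exists_vert_of_cls_eq e
  obtain ⟨k₁, k₂, hk₁, hk₂, hk⟩ := h
  obtain ⟨k₁', k₂', hk₁', hk₂', hk'⟩ := h'
  haveI := hmi
  let m : z.1 ⟶ z'.1 := mi.hom
  haveI : 𝒳.p.IsHomLift (𝟙 P.oD.left) m := hmi
  have mk : ∀ (i : P.oX ⟶ P.oD) (k : Y.obj P.oX ⟶ z.1) (k' : Y.obj P.oX ⟶ z'.1),
      𝒳.p.IsHomLift i.left k → 𝒳.p.IsHomLift i.left k' →
      ∃ h : Y.obj P.oX ⟶ Y.obj P.oX, 𝒳.p.IsHomLift (𝟙 P.oX.left) h ∧ h ≫ k' = k ≫ m := by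
    intro i k k' hk hk'
    haveI := hk
    haveI := hk'
    haveI : 𝒳.p.IsHomLift i.left (k ≫ m) := IsHomLift.comp_lift_id_right 𝒳.p i.left k m
    exact ⟨IsStronglyCartesian.map 𝒳.p i.left k' (g := 𝟙 P.oX.left) (f' := i.left) (Category.id_comp _).symm
        (k ≫ m), IsStronglyCartesian.map_isHomLift 𝒳.p i.left k' (g := 𝟙 P.oX.left) (f' := i.left)
        (Category.id_comp _).symm (k ≫ m), IsStronglyCartesian.fac 𝒳.p i.left k' (g := 𝟙 P.oX.left)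
        (f' := i.left) (Category.id_comp _).symm (k ≫ m)⟩
  obtain ⟨h₁, hh₁, e₁⟩ := mk P.i₁ k₁ k₁' hk₁ hk₁'
  obtain ⟨h₂, hh₂, e₂⟩ := mk P.i₂ k₂ k₂' hk₂ hk₂'
  refine ⟨h₁, h₂, hh₁, hh₂, ?_⟩
  haveI := comp_vert Y (pbv_lift Y P.n h₁ hh₁) ha'
  haveI := comp_vert Y ha (pbv_lift Y P.n h₂ hh₂)
  haveI := lift_map Y P.n
  haveI := hk₂'
  haveI : 𝒳.p.IsHomLift (P.n.left ≫ P.i₂.left) (Y.map P.n ≫ k₂') := inferInstance
  apply IsStronglyCartesian.ext 𝒳.p (P.n.left ≫ P.i₂.left) (Y.map P.n ≫ k₂') (𝟙 P.oV.left)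
  rw [Category.assoc, ← hk', Category.assoc, ← Category.assoc _ (Y.map P.n) k₁', pbv_fac,
    ← Category.assoc _ (Y.map P.n) k₂', pbv_fac, Category.assoc, e₁, Category.assoc, e₂,
    reassoc_of% hk]

/-- Cocycles pull back. -/
theorem coc_pullback {P' : Two T} (sX : P'.oX ⟶ P.oX) (sV : P'.oV ⟶ P.oV) (sD : P'.oD ⟶ P.oD)
    (e₁ : P'.i₁ ≫ sD = sX ≫ P.i₁) (e₂ : P'.i₂ ≫ sD = sX ≫ P.i₂) (en : P'.n ≫ sX = sV ≫ P.n)
    {z : 𝒳.p.Fiber P.oD.left} {a : Y.obj P.oV ⟶ Y.obj P.oV} (ha : 𝒳.p.IsHomLift (𝟙 P.oV.left) a)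
    (h : P.Coc Y z a) {z' : 𝒳.p.Fiber P'.oD.left} (q : z'.1 ⟶ z.1) (hq : 𝒳.p.IsHomLift sD.left q) :
    P'.Coc Y z' (pbv Y sV a ha) := by
  obtain ⟨k₁, k₂, hk₁, hk₂, hk⟩ := h
  haveI := hq
  have mk : ∀ (i' : P'.oX ⟶ P'.oD) (i : P.oX ⟶ P.oD) (k : Y.obj P.oX ⟶ z.1), i' ≫ sD = sX ≫ i →
      𝒳.p.IsHomLift i.left k →
      ∃ k' : Y.obj P'.oX ⟶ z'.1, 𝒳.p.IsHomLift i'.left k' ∧ k' ≫ q = Y.map sX ≫ k := by
    intro i' i k e hk
    haveI := hk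
    haveI := lift_map Y sX
    have e' : sX.left ≫ i.left = i'.left ≫ sD.left := congrArg Over.Hom.left e.symm
    haveI : 𝒳.p.IsHomLift (sX.left ≫ i.left) (Y.map sX ≫ k) := inferInstance
    exact ⟨IsStronglyCartesian.map 𝒳.p sD.left q (g := i'.left) (f' := sX.left ≫ i.left) e' (Y.map sX ≫ k),
      IsStronglyCartesian.map_isHomLift 𝒳.p sD.left q (g := i'.left) (f' := sX.left ≫ i.left) e' (Y.map sX ≫ k),
      IsStronglyCartesian.fac 𝒳.p sD.left q (g := i'.left) (f' := sX.left ≫ i.left) e' (Y.map sX ≫ k)⟩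
  obtain ⟨k₁', hk₁', f₁⟩ := mk P'.i₁ P.i₁ k₁ e₁ hk₁
  obtain ⟨k₂', hk₂', f₂⟩ := mk P'.i₂ P.i₂ k₂ e₂ hk₂
  refine ⟨k₁', k₂', hk₁', hk₂', ?_⟩
  haveI := pbv_lift Y sV a ha
  haveI := hk₁'
  haveI := hk₂'
  haveI := lift_map Y P'.n
  haveI h1 : 𝒳.p.IsHomLift (P'.n.left ≫ P'.i₁.left) (Y.map P'.n ≫ k₁') := inferInstance
  haveI h2 : 𝒳.p.IsHomLift (P'.n.left ≫ P'.i₂.left) (Y.map P'.n ≫ k₂') := inferInstance
  haveI : 𝒳.p.IsHomLift (P'.n.left ≫ P'.i₂.left) (pbv Y sV a ha ≫ Y.map P'.n ≫ k₂') :=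
    IsHomLift.comp_lift_id_left 𝒳.p (P'.n.left ≫ P'.i₂.left) (Y.map P'.n ≫ k₂') (pbv Y sV a ha)
  haveI : 𝒳.p.IsHomLift (P'.n.left ≫ P'.i₂.left) (Y.map P'.n ≫ k₁') := by
    rw [show P'.n.left ≫ P'.i₂.left = P'.n.left ≫ P'.i₁.left from congrArg Over.Hom.left P'.comm.symm]
    exact h1
  apply IsStronglyCartesian.ext 𝒳.p sD.left q (P'.n.left ≫ P'.i₂.left)
  rw [Category.assoc, f₁, Category.assoc, Category.assoc, f₂, ← Category.assoc _ (Y.map sX) k₁,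
    ← Category.assoc _ (Y.map sX) k₂, ← Y.toFunctor.map_comp, en, Y.toFunctor.map_comp, Category.assoc,
    Category.assoc, hk, ← Category.assoc _ (Y.map sV) (Y.map P.n ≫ k₂), pbv_fac, Category.assoc]

end Two

end IsoNatAut
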